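import Cfsg.Agent.J4Cert.Walk
import Cfsg.Agent.J4NonLocal.AutM.Data.Nodes0
import Cfsg.Agent.J4NonLocal.AutM.Data.Nodes1
import Cfsg.Agent.J4NonLocal.AutM.Data.Nodes2
import Cfsg.Agent.J4NonLocal.AutM.Data.Nodes3
import Cfsg.Agent.J4NonLocal.AutM.Data.Nodes4
import Cfsg.Agent.J4NonLocal.AutM.Data.Nodes5
import Cfsg.Agent.J4NonLocal.AutM.Data.Nodes6
import Cfsg.Agent.J4NonLocal.AutM.Data.Nodes7
import Cfsg.Agent.J4NonLocal.AutM.Data.Nodes8
import Cfsg.Agent.J4NonLocal.AutM.Data.Nodes9
import Cfsg.Agent.J4NonLocal.AutM.Data.Nodes10
import Cfsg.Agent.J4NonLocal.AutM.Data.Nodes11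

/-!
The table of the matrices, the products by which they arise, and the elements used in the certificates.
-/

set_option autoImplicit false
set_option maxRecDepth 8000

namespace Cfsg.Lib.J4NonLocal.AutM

open Cfsg.Lib.J4Cert

/-- A part of the table. -/
def ndTree0 : Tr (List ℕ) := .node (.leaf nd0) (.leaf nd512)

/-- A part of the table. -/
def ndTree1 : Tr (List ℕ) := .node (.leaf nd256) (.leaf nd768)

/-- A part of the table. -/
def ndTree2 : Tr (List ℕ) := .node ndTree0 ndTree1

/-- A part of the table. -/
def ndTree3 : Tr (List ℕ) := .node (.leaf nd128) (.leaf nd640)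

/-- A part of the table. -/
def ndTree4 : Tr (List ℕ) := .node (.leaf nd384) (.leaf nd896)

/-- A part of the table. -/
def ndTree5 : Tr (List ℕ) := .node ndTree3 ndTree4

/-- A part of the table. -/
def ndTree6 : Tr (List ℕ) := .node ndTree2 ndTree5

/-- A part of the table. -/
def ndTree7 : Tr (List ℕ) := .node (.leaf nd64) (.leaf nd576)

/-- A part of the table. -/
def ndTree8 : Tr (List ℕ) := .node (.leaf nd320) (.leaf nd832)

/-- A part of the table. -/
def ndTree9 : Tr (List ℕ) := .node ndTree7 ndTree8

/-- A part of the table. -/
def ndTree10 : Tr (List ℕ) := .node (.leaf nd192) (.leaf nd704)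

/-- A part of the table. -/
def ndTree11 : Tr (List ℕ) := .node ndTree10 (.leaf nd448)

/-- A part of the table. -/
def ndTree12 : Tr (List ℕ) := .node ndTree9 ndTree11

/-- A part of the table. -/
def ndTree13 : Tr (List ℕ) := .node ndTree6 ndTree12

/-- A part of the table. -/
def ndTree14 : Tr (List ℕ) := .node (.leaf nd32) (.leaf nd544)

/-- A part of the table. -/
def ndTree15 : Tr (List ℕ) := .node (.leaf nd288) (.leaf nd800)

/-- A part of the table. -/
def ndTree16 : Tr (List ℕ) := .node ndTree14 ndTree15

/-- A part of the table. -/
def ndTree17 : Tr (List ℕ) := .node (.leaf nd160) (.leaf nd672)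

/-- A part of the table. -/
def ndTree18 : Tr (List ℕ) := .node ndTree17 (.leaf nd416)

/-- A part of the table. -/
def ndTree19 : Tr (List ℕ) := .node ndTree16 ndTree18

/-- A part of the table. -/
def ndTree20 : Tr (List ℕ) := .node (.leaf nd96) (.leaf nd608)

/-- A part of the table. -/
def ndTree21 : Tr (List ℕ) := .node (.leaf nd352) (.leaf nd864)

/-- A part of the table. -/
def ndTree22 : Tr (List ℕ) := .node ndTree20 ndTree21

/-- A part of the table. -/
def ndTree23 : Tr (List ℕ) := .node (.leaf nd224) (.leaf nd736)

/-- A part of the table. -/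
def ndTree24 : Tr (List ℕ) := .node ndTree23 (.leaf nd480)

/-- A part of the table. -/
def ndTree25 : Tr (List ℕ) := .node ndTree22 ndTree24

/-- A part of the table. -/
def ndTree26 : Tr (List ℕ) := .node ndTree19 ndTree25

/-- A part of the table. -/
def ndTree27 : Tr (List ℕ) := .node ndTree13 ndTree26

/-- A part of the table. -/
def ndTree28 : Tr (List ℕ) := .node (.leaf nd16) (.leaf nd528)

/-- A part of the table. -/
def ndTree29 : Tr (List ℕ) := .node (.leaf nd272) (.leaf nd784)

/-- A part of the table. -/
def ndTree30 : Tr (List ℕ) := .node ndTree28 ndTree29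

/-- A part of the table. -/
def ndTree31 : Tr (List ℕ) := .node (.leaf nd144) (.leaf nd656)

/-- A part of the table. -/
def ndTree32 : Tr (List ℕ) := .node ndTree31 (.leaf nd400)

/-- A part of the table. -/
def ndTree33 : Tr (List ℕ) := .node ndTree30 ndTree32

/-- A part of the table. -/
def ndTree34 : Tr (List ℕ) := .node (.leaf nd80) (.leaf nd592)

/-- A part of the table. -/
def ndTree35 : Tr (List ℕ) := .node (.leaf nd336) (.leaf nd848)

/-- A part of the table. -/
def ndTree36 : Tr (List ℕ) := .node ndTree34 ndTree35

/-- A part of the table. -/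
def ndTree37 : Tr (List ℕ) := .node (.leaf nd208) (.leaf nd720)

/-- A part of the table. -/
def ndTree38 : Tr (List ℕ) := .node ndTree37 (.leaf nd464)

/-- A part of the table. -/
def ndTree39 : Tr (List ℕ) := .node ndTree36 ndTree38

/-- A part of the table. -/
def ndTree40 : Tr (List ℕ) := .node ndTree33 ndTree39

/-- A part of the table. -/
def ndTree41 : Tr (List ℕ) := .node (.leaf nd48) (.leaf nd560)

/-- A part of the table. -/
def ndTree42 : Tr (List ℕ) := .node (.leaf nd304) (.leaf nd816)

/-- A part of the table. -/
def ndTree43 : Tr (List ℕ) := .node ndTree41 ndTree42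

/-- A part of the table. -/
def ndTree44 : Tr (List ℕ) := .node (.leaf nd176) (.leaf nd688)

/-- A part of the table. -/
def ndTree45 : Tr (List ℕ) := .node ndTree44 (.leaf nd432)

/-- A part of the table. -/
def ndTree46 : Tr (List ℕ) := .node ndTree43 ndTree45

/-- A part of the table. -/
def ndTree47 : Tr (List ℕ) := .node (.leaf nd112) (.leaf nd624)

/-- A part of the table. -/
def ndTree48 : Tr (List ℕ) := .node (.leaf nd368) (.leaf nd880)

/-- A part of the table. -/
def ndTree49 : Tr (List ℕ) := .node ndTree47 ndTree48

/-- A part of the table. -/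
def ndTree50 : Tr (List ℕ) := .node (.leaf nd240) (.leaf nd752)

/-- A part of the table. -/
def ndTree51 : Tr (List ℕ) := .node ndTree50 (.leaf nd496)

/-- A part of the table. -/
def ndTree52 : Tr (List ℕ) := .node ndTree49 ndTree51

/-- A part of the table. -/
def ndTree53 : Tr (List ℕ) := .node ndTree46 ndTree52

/-- A part of the table. -/
def ndTree54 : Tr (List ℕ) := .node ndTree40 ndTree53

/-- A part of the table. -/
def ndTree55 : Tr (List ℕ) := .node ndTree27 ndTree54

/-- A part of the table. -/
def ndTree56 : Tr (List ℕ) := .node (.leaf nd8) (.leaf nd520)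

/-- A part of the table. -/
def ndTree57 : Tr (List ℕ) := .node (.leaf nd264) (.leaf nd776)

/-- A part of the table. -/
def ndTree58 : Tr (List ℕ) := .node ndTree56 ndTree57

/-- A part of the table. -/
def ndTree59 : Tr (List ℕ) := .node (.leaf nd136) (.leaf nd648)

/-- A part of the table. -/
def ndTree60 : Tr (List ℕ) := .node (.leaf nd392) (.leaf nd904)

/-- A part of the table. -/
def ndTree61 : Tr (List ℕ) := .node ndTree59 ndTree60

/-- A part of the table. -/
def ndTree62 : Tr (List ℕ) := .node ndTree58 ndTree61

/-- A part of the table. -/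
def ndTree63 : Tr (List ℕ) := .node (.leaf nd72) (.leaf nd584)

/-- A part of the table. -/
def ndTree64 : Tr (List ℕ) := .node (.leaf nd328) (.leaf nd840)

/-- A part of the table. -/
def ndTree65 : Tr (List ℕ) := .node ndTree63 ndTree64

/-- A part of the table. -/
def ndTree66 : Tr (List ℕ) := .node (.leaf nd200) (.leaf nd712)

/-- A part of the table. -/
def ndTree67 : Tr (List ℕ) := .node ndTree66 (.leaf nd456)

/-- A part of the table. -/
def ndTree68 : Tr (List ℕ) := .node ndTree65 ndTree67

/-- A part of the table. -/
def ndTree69 : Tr (List ℕ) := .node ndTree62 ndTree68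

/-- A part of the table. -/
def ndTree70 : Tr (List ℕ) := .node (.leaf nd40) (.leaf nd552)

/-- A part of the table. -/
def ndTree71 : Tr (List ℕ) := .node (.leaf nd296) (.leaf nd808)

/-- A part of the table. -/
def ndTree72 : Tr (List ℕ) := .node ndTree70 ndTree71

/-- A part of the table. -/
def ndTree73 : Tr (List ℕ) := .node (.leaf nd168) (.leaf nd680)

/-- A part of the table. -/
def ndTree74 : Tr (List ℕ) := .node ndTree73 (.leaf nd424)

/-- A part of the table. -/
def ndTree75 : Tr (List ℕ) := .node ndTree72 ndTree74

/-- A part of the table. -/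
def ndTree76 : Tr (List ℕ) := .node (.leaf nd104) (.leaf nd616)

/-- A part of the table. -/
def ndTree77 : Tr (List ℕ) := .node (.leaf nd360) (.leaf nd872)

/-- A part of the table. -/
def ndTree78 : Tr (List ℕ) := .node ndTree76 ndTree77

/-- A part of the table. -/
def ndTree79 : Tr (List ℕ) := .node (.leaf nd232) (.leaf nd744)

/-- A part of the table. -/
def ndTree80 : Tr (List ℕ) := .node ndTree79 (.leaf nd488)

/-- A part of the table. -/
def ndTree81 : Tr (List ℕ) := .node ndTree78 ndTree80

/-- A part of the table. -/
def ndTree82 : Tr (List ℕ) := .node ndTree75 ndTree81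

/-- A part of the table. -/
def ndTree83 : Tr (List ℕ) := .node ndTree69 ndTree82

/-- A part of the table. -/
def ndTree84 : Tr (List ℕ) := .node (.leaf nd24) (.leaf nd536)

/-- A part of the table. -/
def ndTree85 : Tr (List ℕ) := .node (.leaf nd280) (.leaf nd792)

/-- A part of the table. -/
def ndTree86 : Tr (List ℕ) := .node ndTree84 ndTree85

/-- A part of the table. -/
def ndTree87 : Tr (List ℕ) := .node (.leaf nd152) (.leaf nd664)

/-- A part of the table. -/
def ndTree88 : Tr (List ℕ) := .node ndTree87 (.leaf nd408)

/-- A part of the table. -/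
def ndTree89 : Tr (List ℕ) := .node ndTree86 ndTree88

/-- A part of the table. -/
def ndTree90 : Tr (List ℕ) := .node (.leaf nd88) (.leaf nd600)

/-- A part of the table. -/
def ndTree91 : Tr (List ℕ) := .node (.leaf nd344) (.leaf nd856)

/-- A part of the table. -/
def ndTree92 : Tr (List ℕ) := .node ndTree90 ndTree91

/-- A part of the table. -/
def ndTree93 : Tr (List ℕ) := .node (.leaf nd216) (.leaf nd728)

/-- A part of the table. -/
def ndTree94 : Tr (List ℕ) := .node ndTree93 (.leaf nd472)

/-- A part of the table. -/
def ndTree95 : Tr (List ℕ) := .node ndTree92 ndTree94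

/-- A part of the table. -/
def ndTree96 : Tr (List ℕ) := .node ndTree89 ndTree95

/-- A part of the table. -/
def ndTree97 : Tr (List ℕ) := .node (.leaf nd56) (.leaf nd568)

/-- A part of the table. -/
def ndTree98 : Tr (List ℕ) := .node (.leaf nd312) (.leaf nd824)

/-- A part of the table. -/
def ndTree99 : Tr (List ℕ) := .node ndTree97 ndTree98

/-- A part of the table. -/
def ndTree100 : Tr (List ℕ) := .node (.leaf nd184) (.leaf nd696)

/-- A part of the table. -/
def ndTree101 : Tr (List ℕ) := .node ndTree100 (.leaf nd440)

/-- A part of the table. -/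
def ndTree102 : Tr (List ℕ) := .node ndTree99 ndTree101

/-- A part of the table. -/
def ndTree103 : Tr (List ℕ) := .node (.leaf nd120) (.leaf nd632)

/-- A part of the table. -/
def ndTree104 : Tr (List ℕ) := .node (.leaf nd376) (.leaf nd888)

/-- A part of the table. -/
def ndTree105 : Tr (List ℕ) := .node ndTree103 ndTree104

/-- A part of the table. -/
def ndTree106 : Tr (List ℕ) := .node (.leaf nd248) (.leaf nd760)

/-- A part of the table. -/
def ndTree107 : Tr (List ℕ) := .node ndTree106 (.leaf nd504)

/-- A part of the table. -/
def ndTree108 : Tr (List ℕ) := .node ndTree105 ndTree107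

/-- A part of the table. -/
def ndTree109 : Tr (List ℕ) := .node ndTree102 ndTree108

/-- A part of the table. -/
def ndTree110 : Tr (List ℕ) := .node ndTree96 ndTree109

/-- A part of the table. -/
def ndTree111 : Tr (List ℕ) := .node ndTree83 ndTree110

/-- A part of the table. -/
def ndTree112 : Tr (List ℕ) := .node ndTree55 ndTree111

/-- A part of the table. -/
def ndTree113 : Tr (List ℕ) := .node (.leaf nd4) (.leaf nd516)

/-- A part of the table. -/
def ndTree114 : Tr (List ℕ) := .node (.leaf nd260) (.leaf nd772)

/-- A part of the table. -/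
def ndTree115 : Tr (List ℕ) := .node ndTree113 ndTree114

/-- A part of the table. -/
def ndTree116 : Tr (List ℕ) := .node (.leaf nd132) (.leaf nd644)

/-- A part of the table. -/
def ndTree117 : Tr (List ℕ) := .node (.leaf nd388) (.leaf nd900)

/-- A part of the table. -/
def ndTree118 : Tr (List ℕ) := .node ndTree116 ndTree117

/-- A part of the table. -/
def ndTree119 : Tr (List ℕ) := .node ndTree115 ndTree118

/-- A part of the table. -/
def ndTree120 : Tr (List ℕ) := .node (.leaf nd68) (.leaf nd580)

/-- A part of the table. -/
def ndTree121 : Tr (List ℕ) := .node (.leaf nd324) (.leaf nd836)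

/-- A part of the table. -/
def ndTree122 : Tr (List ℕ) := .node ndTree120 ndTree121

/-- A part of the table. -/
def ndTree123 : Tr (List ℕ) := .node (.leaf nd196) (.leaf nd708)

/-- A part of the table. -/
def ndTree124 : Tr (List ℕ) := .node ndTree123 (.leaf nd452)

/-- A part of the table. -/
def ndTree125 : Tr (List ℕ) := .node ndTree122 ndTree124

/-- A part of the table. -/
def ndTree126 : Tr (List ℕ) := .node ndTree119 ndTree125

/-- A part of the table. -/
def ndTree127 : Tr (List ℕ) := .node (.leaf nd36) (.leaf nd548)

/-- A part of the table. -/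
def ndTree128 : Tr (List ℕ) := .node (.leaf nd292) (.leaf nd804)

/-- A part of the table. -/
def ndTree129 : Tr (List ℕ) := .node ndTree127 ndTree128

/-- A part of the table. -/
def ndTree130 : Tr (List ℕ) := .node (.leaf nd164) (.leaf nd676)

/-- A part of the table. -/
def ndTree131 : Tr (List ℕ) := .node ndTree130 (.leaf nd420)

/-- A part of the table. -/
def ndTree132 : Tr (List ℕ) := .node ndTree129 ndTree131

/-- A part of the table. -/
def ndTree133 : Tr (List ℕ) := .node (.leaf nd100) (.leaf nd612)

/-- A part of the table. -/
def ndTree134 : Tr (List ℕ) := .node (.leaf nd356) (.leaf nd868)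

/-- A part of the table. -/
def ndTree135 : Tr (List ℕ) := .node ndTree133 ndTree134

/-- A part of the table. -/
def ndTree136 : Tr (List ℕ) := .node (.leaf nd228) (.leaf nd740)

/-- A part of the table. -/
def ndTree137 : Tr (List ℕ) := .node ndTree136 (.leaf nd484)

/-- A part of the table. -/
def ndTree138 : Tr (List ℕ) := .node ndTree135 ndTree137

/-- A part of the table. -/
def ndTree139 : Tr (List ℕ) := .node ndTree132 ndTree138

/-- A part of the table. -/
def ndTree140 : Tr (List ℕ) := .node ndTree126 ndTree139

/-- A part of the table. -/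
def ndTree141 : Tr (List ℕ) := .node (.leaf nd20) (.leaf nd532)

/-- A part of the table. -/
def ndTree142 : Tr (List ℕ) := .node (.leaf nd276) (.leaf nd788)

/-- A part of the table. -/
def ndTree143 : Tr (List ℕ) := .node ndTree141 ndTree142

/-- A part of the table. -/
def ndTree144 : Tr (List ℕ) := .node (.leaf nd148) (.leaf nd660)

/-- A part of the table. -/
def ndTree145 : Tr (List ℕ) := .node ndTree144 (.leaf nd404)

/-- A part of the table. -/
def ndTree146 : Tr (List ℕ) := .node ndTree143 ndTree145

/-- A part of the table. -/
def ndTree147 : Tr (List ℕ) := .node (.leaf nd84) (.leaf nd596)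

/-- A part of the table. -/
def ndTree148 : Tr (List ℕ) := .node (.leaf nd340) (.leaf nd852)

/-- A part of the table. -/
def ndTree149 : Tr (List ℕ) := .node ndTree147 ndTree148

/-- A part of the table. -/
def ndTree150 : Tr (List ℕ) := .node (.leaf nd212) (.leaf nd724)

/-- A part of the table. -/
def ndTree151 : Tr (List ℕ) := .node ndTree150 (.leaf nd468)

/-- A part of the table. -/
def ndTree152 : Tr (List ℕ) := .node ndTree149 ndTree151

/-- A part of the table. -/
def ndTree153 : Tr (List ℕ) := .node ndTree146 ndTree152

/-- A part of the table. -/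
def ndTree154 : Tr (List ℕ) := .node (.leaf nd52) (.leaf nd564)

/-- A part of the table. -/
def ndTree155 : Tr (List ℕ) := .node (.leaf nd308) (.leaf nd820)

/-- A part of the table. -/
def ndTree156 : Tr (List ℕ) := .node ndTree154 ndTree155

/-- A part of the table. -/
def ndTree157 : Tr (List ℕ) := .node (.leaf nd180) (.leaf nd692)

/-- A part of the table. -/
def ndTree158 : Tr (List ℕ) := .node ndTree157 (.leaf nd436)

/-- A part of the table. -/
def ndTree159 : Tr (List ℕ) := .node ndTree156 ndTree158

/-- A part of the table. -/
def ndTree160 : Tr (List ℕ) := .node (.leaf nd116) (.leaf nd628)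

/-- A part of the table. -/
def ndTree161 : Tr (List ℕ) := .node (.leaf nd372) (.leaf nd884)

/-- A part of the table. -/
def ndTree162 : Tr (List ℕ) := .node ndTree160 ndTree161

/-- A part of the table. -/
def ndTree163 : Tr (List ℕ) := .node (.leaf nd244) (.leaf nd756)

/-- A part of the table. -/
def ndTree164 : Tr (List ℕ) := .node ndTree163 (.leaf nd500)

/-- A part of the table. -/
def ndTree165 : Tr (List ℕ) := .node ndTree162 ndTree164

/-- A part of the table. -/
def ndTree166 : Tr (List ℕ) := .node ndTree159 ndTree165

/-- A part of the table. -/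
def ndTree167 : Tr (List ℕ) := .node ndTree153 ndTree166

/-- A part of the table. -/
def ndTree168 : Tr (List ℕ) := .node ndTree140 ndTree167

/-- A part of the table. -/
def ndTree169 : Tr (List ℕ) := .node (.leaf nd12) (.leaf nd524)

/-- A part of the table. -/
def ndTree170 : Tr (List ℕ) := .node (.leaf nd268) (.leaf nd780)

/-- A part of the table. -/
def ndTree171 : Tr (List ℕ) := .node ndTree169 ndTree170

/-- A part of the table. -/
def ndTree172 : Tr (List ℕ) := .node (.leaf nd140) (.leaf nd652)

/-- A part of the table. -/
def ndTree173 : Tr (List ℕ) := .node ndTree172 (.leaf nd396)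

/-- A part of the table. -/
def ndTree174 : Tr (List ℕ) := .node ndTree171 ndTree173

/-- A part of the table. -/
def ndTree175 : Tr (List ℕ) := .node (.leaf nd76) (.leaf nd588)

/-- A part of the table. -/
def ndTree176 : Tr (List ℕ) := .node (.leaf nd332) (.leaf nd844)

/-- A part of the table. -/
def ndTree177 : Tr (List ℕ) := .node ndTree175 ndTree176

/-- A part of the table. -/
def ndTree178 : Tr (List ℕ) := .node (.leaf nd204) (.leaf nd716)

/-- A part of the table. -/
def ndTree179 : Tr (List ℕ) := .node ndTree178 (.leaf nd460)

/-- A part of the table. -/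
def ndTree180 : Tr (List ℕ) := .node ndTree177 ndTree179

/-- A part of the table. -/
def ndTree181 : Tr (List ℕ) := .node ndTree174 ndTree180

/-- A part of the table. -/
def ndTree182 : Tr (List ℕ) := .node (.leaf nd44) (.leaf nd556)

/-- A part of the table. -/
def ndTree183 : Tr (List ℕ) := .node (.leaf nd300) (.leaf nd812)

/-- A part of the table. -/
def ndTree184 : Tr (List ℕ) := .node ndTree182 ndTree183

/-- A part of the table. -/
def ndTree185 : Tr (List ℕ) := .node (.leaf nd172) (.leaf nd684)

/-- A part of the table. -/
def ndTree186 : Tr (List ℕ) := .node ndTree185 (.leaf nd428)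

/-- A part of the table. -/
def ndTree187 : Tr (List ℕ) := .node ndTree184 ndTree186

/-- A part of the table. -/
def ndTree188 : Tr (List ℕ) := .node (.leaf nd108) (.leaf nd620)

/-- A part of the table. -/
def ndTree189 : Tr (List ℕ) := .node (.leaf nd364) (.leaf nd876)

/-- A part of the table. -/
def ndTree190 : Tr (List ℕ) := .node ndTree188 ndTree189

/-- A part of the table. -/
def ndTree191 : Tr (List ℕ) := .node (.leaf nd236) (.leaf nd748)

/-- A part of the table. -/
def ndTree192 : Tr (List ℕ) := .node ndTree191 (.leaf nd492)

/-- A part of the table. -/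
def ndTree193 : Tr (List ℕ) := .node ndTree190 ndTree192

/-- A part of the table. -/
def ndTree194 : Tr (List ℕ) := .node ndTree187 ndTree193

/-- A part of the table. -/
def ndTree195 : Tr (List ℕ) := .node ndTree181 ndTree194

/-- A part of the table. -/
def ndTree196 : Tr (List ℕ) := .node (.leaf nd28) (.leaf nd540)

/-- A part of the table. -/
def ndTree197 : Tr (List ℕ) := .node (.leaf nd284) (.leaf nd796)

/-- A part of the table. -/
def ndTree198 : Tr (List ℕ) := .node ndTree196 ndTree197

/-- A part of the table. -/
def ndTree199 : Tr (List ℕ) := .node (.leaf nd156) (.leaf nd668)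

/-- A part of the table. -/
def ndTree200 : Tr (List ℕ) := .node ndTree199 (.leaf nd412)

/-- A part of the table. -/
def ndTree201 : Tr (List ℕ) := .node ndTree198 ndTree200

/-- A part of the table. -/
def ndTree202 : Tr (List ℕ) := .node (.leaf nd92) (.leaf nd604)

/-- A part of the table. -/
def ndTree203 : Tr (List ℕ) := .node (.leaf nd348) (.leaf nd860)

/-- A part of the table. -/
def ndTree204 : Tr (List ℕ) := .node ndTree202 ndTree203

/-- A part of the table. -/
def ndTree205 : Tr (List ℕ) := .node (.leaf nd220) (.leaf nd732)

/-- A part of the table. -/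
def ndTree206 : Tr (List ℕ) := .node ndTree205 (.leaf nd476)

/-- A part of the table. -/
def ndTree207 : Tr (List ℕ) := .node ndTree204 ndTree206

/-- A part of the table. -/
def ndTree208 : Tr (List ℕ) := .node ndTree201 ndTree207

/-- A part of the table. -/
def ndTree209 : Tr (List ℕ) := .node (.leaf nd60) (.leaf nd572)

/-- A part of the table. -/
def ndTree210 : Tr (List ℕ) := .node (.leaf nd316) (.leaf nd828)

/-- A part of the table. -/
def ndTree211 : Tr (List ℕ) := .node ndTree209 ndTree210

/-- A part of the table. -/
def ndTree212 : Tr (List ℕ) := .node (.leaf nd188) (.leaf nd700)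

/-- A part of the table. -/
def ndTree213 : Tr (List ℕ) := .node ndTree212 (.leaf nd444)

/-- A part of the table. -/
def ndTree214 : Tr (List ℕ) := .node ndTree211 ndTree213

/-- A part of the table. -/
def ndTree215 : Tr (List ℕ) := .node (.leaf nd124) (.leaf nd636)

/-- A part of the table. -/
def ndTree216 : Tr (List ℕ) := .node (.leaf nd380) (.leaf nd892)

/-- A part of the table. -/
def ndTree217 : Tr (List ℕ) := .node ndTree215 ndTree216

/-- A part of the table. -/
def ndTree218 : Tr (List ℕ) := .node (.leaf nd252) (.leaf nd764)

/-- A part of the table. -/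
def ndTree219 : Tr (List ℕ) := .node ndTree218 (.leaf nd508)

/-- A part of the table. -/
def ndTree220 : Tr (List ℕ) := .node ndTree217 ndTree219

/-- A part of the table. -/
def ndTree221 : Tr (List ℕ) := .node ndTree214 ndTree220

/-- A part of the table. -/
def ndTree222 : Tr (List ℕ) := .node ndTree208 ndTree221

/-- A part of the table. -/
def ndTree223 : Tr (List ℕ) := .node ndTree195 ndTree222

/-- A part of the table. -/
def ndTree224 : Tr (List ℕ) := .node ndTree168 ndTree223

/-- A part of the table. -/
def ndTree225 : Tr (List ℕ) := .node ndTree112 ndTree224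

/-- A part of the table. -/
def ndTree226 : Tr (List ℕ) := .node (.leaf nd2) (.leaf nd514)

/-- A part of the table. -/
def ndTree227 : Tr (List ℕ) := .node (.leaf nd258) (.leaf nd770)

/-- A part of the table. -/
def ndTree228 : Tr (List ℕ) := .node ndTree226 ndTree227

/-- A part of the table. -/
def ndTree229 : Tr (List ℕ) := .node (.leaf nd130) (.leaf nd642)

/-- A part of the table. -/
def ndTree230 : Tr (List ℕ) := .node (.leaf nd386) (.leaf nd898)

/-- A part of the table. -/
def ndTree231 : Tr (List ℕ) := .node ndTree229 ndTree230

/-- A part of the table. -/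
def ndTree232 : Tr (List ℕ) := .node ndTree228 ndTree231

/-- A part of the table. -/
def ndTree233 : Tr (List ℕ) := .node (.leaf nd66) (.leaf nd578)

/-- A part of the table. -/
def ndTree234 : Tr (List ℕ) := .node (.leaf nd322) (.leaf nd834)

/-- A part of the table. -/
def ndTree235 : Tr (List ℕ) := .node ndTree233 ndTree234

/-- A part of the table. -/
def ndTree236 : Tr (List ℕ) := .node (.leaf nd194) (.leaf nd706)

/-- A part of the table. -/
def ndTree237 : Tr (List ℕ) := .node ndTree236 (.leaf nd450)

/-- A part of the table. -/
def ndTree238 : Tr (List ℕ) := .node ndTree235 ndTree237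

/-- A part of the table. -/
def ndTree239 : Tr (List ℕ) := .node ndTree232 ndTree238

/-- A part of the table. -/
def ndTree240 : Tr (List ℕ) := .node (.leaf nd34) (.leaf nd546)

/-- A part of the table. -/
def ndTree241 : Tr (List ℕ) := .node (.leaf nd290) (.leaf nd802)

/-- A part of the table. -/
def ndTree242 : Tr (List ℕ) := .node ndTree240 ndTree241

/-- A part of the table. -/
def ndTree243 : Tr (List ℕ) := .node (.leaf nd162) (.leaf nd674)

/-- A part of the table. -/
def ndTree244 : Tr (List ℕ) := .node ndTree243 (.leaf nd418)

/-- A part of the table. -/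
def ndTree245 : Tr (List ℕ) := .node ndTree242 ndTree244

/-- A part of the table. -/
def ndTree246 : Tr (List ℕ) := .node (.leaf nd98) (.leaf nd610)

/-- A part of the table. -/
def ndTree247 : Tr (List ℕ) := .node (.leaf nd354) (.leaf nd866)

/-- A part of the table. -/
def ndTree248 : Tr (List ℕ) := .node ndTree246 ndTree247

/-- A part of the table. -/
def ndTree249 : Tr (List ℕ) := .node (.leaf nd226) (.leaf nd738)

/-- A part of the table. -/
def ndTree250 : Tr (List ℕ) := .node ndTree249 (.leaf nd482)

/-- A part of the table. -/
def ndTree251 : Tr (List ℕ) := .node ndTree248 ndTree250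

/-- A part of the table. -/
def ndTree252 : Tr (List ℕ) := .node ndTree245 ndTree251

/-- A part of the table. -/
def ndTree253 : Tr (List ℕ) := .node ndTree239 ndTree252

/-- A part of the table. -/
def ndTree254 : Tr (List ℕ) := .node (.leaf nd18) (.leaf nd530)

/-- A part of the table. -/
def ndTree255 : Tr (List ℕ) := .node (.leaf nd274) (.leaf nd786)

/-- A part of the table. -/
def ndTree256 : Tr (List ℕ) := .node ndTree254 ndTree255

/-- A part of the table. -/
def ndTree257 : Tr (List ℕ) := .node (.leaf nd146) (.leaf nd658)

/-- A part of the table. -/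
def ndTree258 : Tr (List ℕ) := .node ndTree257 (.leaf nd402)

/-- A part of the table. -/
def ndTree259 : Tr (List ℕ) := .node ndTree256 ndTree258

/-- A part of the table. -/
def ndTree260 : Tr (List ℕ) := .node (.leaf nd82) (.leaf nd594)

/-- A part of the table. -/
def ndTree261 : Tr (List ℕ) := .node (.leaf nd338) (.leaf nd850)

/-- A part of the table. -/
def ndTree262 : Tr (List ℕ) := .node ndTree260 ndTree261

/-- A part of the table. -/
def ndTree263 : Tr (List ℕ) := .node (.leaf nd210) (.leaf nd722)

/-- A part of the table. -/
def ndTree264 : Tr (List ℕ) := .node ndTree263 (.leaf nd466)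

/-- A part of the table. -/
def ndTree265 : Tr (List ℕ) := .node ndTree262 ndTree264

/-- A part of the table. -/
def ndTree266 : Tr (List ℕ) := .node ndTree259 ndTree265

/-- A part of the table. -/
def ndTree267 : Tr (List ℕ) := .node (.leaf nd50) (.leaf nd562)

/-- A part of the table. -/
def ndTree268 : Tr (List ℕ) := .node (.leaf nd306) (.leaf nd818)

/-- A part of the table. -/
def ndTree269 : Tr (List ℕ) := .node ndTree267 ndTree268

/-- A part of the table. -/
def ndTree270 : Tr (List ℕ) := .node (.leaf nd178) (.leaf nd690)

/-- A part of the table. -/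
def ndTree271 : Tr (List ℕ) := .node ndTree270 (.leaf nd434)

/-- A part of the table. -/
def ndTree272 : Tr (List ℕ) := .node ndTree269 ndTree271

/-- A part of the table. -/
def ndTree273 : Tr (List ℕ) := .node (.leaf nd114) (.leaf nd626)

/-- A part of the table. -/
def ndTree274 : Tr (List ℕ) := .node (.leaf nd370) (.leaf nd882)

/-- A part of the table. -/
def ndTree275 : Tr (List ℕ) := .node ndTree273 ndTree274

/-- A part of the table. -/
def ndTree276 : Tr (List ℕ) := .node (.leaf nd242) (.leaf nd754)

/-- A part of the table. -/
def ndTree277 : Tr (List ℕ) := .node ndTree276 (.leaf nd498)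

/-- A part of the table. -/
def ndTree278 : Tr (List ℕ) := .node ndTree275 ndTree277

/-- A part of the table. -/
def ndTree279 : Tr (List ℕ) := .node ndTree272 ndTree278

/-- A part of the table. -/
def ndTree280 : Tr (List ℕ) := .node ndTree266 ndTree279

/-- A part of the table. -/
def ndTree281 : Tr (List ℕ) := .node ndTree253 ndTree280

/-- A part of the table. -/
def ndTree282 : Tr (List ℕ) := .node (.leaf nd10) (.leaf nd522)

/-- A part of the table. -/
def ndTree283 : Tr (List ℕ) := .node (.leaf nd266) (.leaf nd778)

/-- A part of the table. -/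
def ndTree284 : Tr (List ℕ) := .node ndTree282 ndTree283

/-- A part of the table. -/
def ndTree285 : Tr (List ℕ) := .node (.leaf nd138) (.leaf nd650)

/-- A part of the table. -/
def ndTree286 : Tr (List ℕ) := .node ndTree285 (.leaf nd394)

/-- A part of the table. -/
def ndTree287 : Tr (List ℕ) := .node ndTree284 ndTree286

/-- A part of the table. -/
def ndTree288 : Tr (List ℕ) := .node (.leaf nd74) (.leaf nd586)

/-- A part of the table. -/
def ndTree289 : Tr (List ℕ) := .node (.leaf nd330) (.leaf nd842)

/-- A part of the table. -/
def ndTree290 : Tr (List ℕ) := .node ndTree288 ndTree289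

/-- A part of the table. -/
def ndTree291 : Tr (List ℕ) := .node (.leaf nd202) (.leaf nd714)

/-- A part of the table. -/
def ndTree292 : Tr (List ℕ) := .node ndTree291 (.leaf nd458)

/-- A part of the table. -/
def ndTree293 : Tr (List ℕ) := .node ndTree290 ndTree292

/-- A part of the table. -/
def ndTree294 : Tr (List ℕ) := .node ndTree287 ndTree293

/-- A part of the table. -/
def ndTree295 : Tr (List ℕ) := .node (.leaf nd42) (.leaf nd554)

/-- A part of the table. -/
def ndTree296 : Tr (List ℕ) := .node (.leaf nd298) (.leaf nd810)

/-- A part of the table. -/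
def ndTree297 : Tr (List ℕ) := .node ndTree295 ndTree296

/-- A part of the table. -/
def ndTree298 : Tr (List ℕ) := .node (.leaf nd170) (.leaf nd682)

/-- A part of the table. -/
def ndTree299 : Tr (List ℕ) := .node ndTree298 (.leaf nd426)

/-- A part of the table. -/
def ndTree300 : Tr (List ℕ) := .node ndTree297 ndTree299

/-- A part of the table. -/
def ndTree301 : Tr (List ℕ) := .node (.leaf nd106) (.leaf nd618)

/-- A part of the table. -/
def ndTree302 : Tr (List ℕ) := .node (.leaf nd362) (.leaf nd874)

/-- A part of the table. -/
def ndTree303 : Tr (List ℕ) := .node ndTree301 ndTree302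

/-- A part of the table. -/
def ndTree304 : Tr (List ℕ) := .node (.leaf nd234) (.leaf nd746)

/-- A part of the table. -/
def ndTree305 : Tr (List ℕ) := .node ndTree304 (.leaf nd490)

/-- A part of the table. -/
def ndTree306 : Tr (List ℕ) := .node ndTree303 ndTree305

/-- A part of the table. -/
def ndTree307 : Tr (List ℕ) := .node ndTree300 ndTree306

/-- A part of the table. -/
def ndTree308 : Tr (List ℕ) := .node ndTree294 ndTree307

/-- A part of the table. -/
def ndTree309 : Tr (List ℕ) := .node (.leaf nd26) (.leaf nd538)

/-- A part of the table. -/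
def ndTree310 : Tr (List ℕ) := .node (.leaf nd282) (.leaf nd794)

/-- A part of the table. -/
def ndTree311 : Tr (List ℕ) := .node ndTree309 ndTree310

/-- A part of the table. -/
def ndTree312 : Tr (List ℕ) := .node (.leaf nd154) (.leaf nd666)

/-- A part of the table. -/
def ndTree313 : Tr (List ℕ) := .node ndTree312 (.leaf nd410)

/-- A part of the table. -/
def ndTree314 : Tr (List ℕ) := .node ndTree311 ndTree313

/-- A part of the table. -/
def ndTree315 : Tr (List ℕ) := .node (.leaf nd90) (.leaf nd602)

/-- A part of the table. -/
def ndTree316 : Tr (List ℕ) := .node (.leaf nd346) (.leaf nd858)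

/-- A part of the table. -/
def ndTree317 : Tr (List ℕ) := .node ndTree315 ndTree316

/-- A part of the table. -/
def ndTree318 : Tr (List ℕ) := .node (.leaf nd218) (.leaf nd730)

/-- A part of the table. -/
def ndTree319 : Tr (List ℕ) := .node ndTree318 (.leaf nd474)

/-- A part of the table. -/
def ndTree320 : Tr (List ℕ) := .node ndTree317 ndTree319

/-- A part of the table. -/
def ndTree321 : Tr (List ℕ) := .node ndTree314 ndTree320

/-- A part of the table. -/
def ndTree322 : Tr (List ℕ) := .node (.leaf nd58) (.leaf nd570)

/-- A part of the table. -/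
def ndTree323 : Tr (List ℕ) := .node (.leaf nd314) (.leaf nd826)

/-- A part of the table. -/
def ndTree324 : Tr (List ℕ) := .node ndTree322 ndTree323

/-- A part of the table. -/
def ndTree325 : Tr (List ℕ) := .node (.leaf nd186) (.leaf nd698)

/-- A part of the table. -/
def ndTree326 : Tr (List ℕ) := .node ndTree325 (.leaf nd442)

/-- A part of the table. -/
def ndTree327 : Tr (List ℕ) := .node ndTree324 ndTree326

/-- A part of the table. -/
def ndTree328 : Tr (List ℕ) := .node (.leaf nd122) (.leaf nd634)

/-- A part of the table. -/
def ndTree329 : Tr (List ℕ) := .node (.leaf nd378) (.leaf nd890)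

/-- A part of the table. -/
def ndTree330 : Tr (List ℕ) := .node ndTree328 ndTree329

/-- A part of the table. -/
def ndTree331 : Tr (List ℕ) := .node (.leaf nd250) (.leaf nd762)

/-- A part of the table. -/
def ndTree332 : Tr (List ℕ) := .node ndTree331 (.leaf nd506)

/-- A part of the table. -/
def ndTree333 : Tr (List ℕ) := .node ndTree330 ndTree332

/-- A part of the table. -/
def ndTree334 : Tr (List ℕ) := .node ndTree327 ndTree333

/-- A part of the table. -/
def ndTree335 : Tr (List ℕ) := .node ndTree321 ndTree334

/-- A part of the table. -/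
def ndTree336 : Tr (List ℕ) := .node ndTree308 ndTree335

/-- A part of the table. -/
def ndTree337 : Tr (List ℕ) := .node ndTree281 ndTree336

/-- A part of the table. -/
def ndTree338 : Tr (List ℕ) := .node (.leaf nd6) (.leaf nd518)

/-- A part of the table. -/
def ndTree339 : Tr (List ℕ) := .node (.leaf nd262) (.leaf nd774)

/-- A part of the table. -/
def ndTree340 : Tr (List ℕ) := .node ndTree338 ndTree339

/-- A part of the table. -/
def ndTree341 : Tr (List ℕ) := .node (.leaf nd134) (.leaf nd646)

/-- A part of the table. -/
def ndTree342 : Tr (List ℕ) := .node (.leaf nd390) (.leaf nd902)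

/-- A part of the table. -/
def ndTree343 : Tr (List ℕ) := .node ndTree341 ndTree342

/-- A part of the table. -/
def ndTree344 : Tr (List ℕ) := .node ndTree340 ndTree343

/-- A part of the table. -/
def ndTree345 : Tr (List ℕ) := .node (.leaf nd70) (.leaf nd582)

/-- A part of the table. -/
def ndTree346 : Tr (List ℕ) := .node (.leaf nd326) (.leaf nd838)

/-- A part of the table. -/
def ndTree347 : Tr (List ℕ) := .node ndTree345 ndTree346

/-- A part of the table. -/
def ndTree348 : Tr (List ℕ) := .node (.leaf nd198) (.leaf nd710)

/-- A part of the table. -/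
def ndTree349 : Tr (List ℕ) := .node ndTree348 (.leaf nd454)

/-- A part of the table. -/
def ndTree350 : Tr (List ℕ) := .node ndTree347 ndTree349

/-- A part of the table. -/
def ndTree351 : Tr (List ℕ) := .node ndTree344 ndTree350

/-- A part of the table. -/
def ndTree352 : Tr (List ℕ) := .node (.leaf nd38) (.leaf nd550)

/-- A part of the table. -/
def ndTree353 : Tr (List ℕ) := .node (.leaf nd294) (.leaf nd806)

/-- A part of the table. -/
def ndTree354 : Tr (List ℕ) := .node ndTree352 ndTree353

/-- A part of the table. -/
def ndTree355 : Tr (List ℕ) := .node (.leaf nd166) (.leaf nd678)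

/-- A part of the table. -/
def ndTree356 : Tr (List ℕ) := .node ndTree355 (.leaf nd422)

/-- A part of the table. -/
def ndTree357 : Tr (List ℕ) := .node ndTree354 ndTree356

/-- A part of the table. -/
def ndTree358 : Tr (List ℕ) := .node (.leaf nd102) (.leaf nd614)

/-- A part of the table. -/
def ndTree359 : Tr (List ℕ) := .node (.leaf nd358) (.leaf nd870)

/-- A part of the table. -/
def ndTree360 : Tr (List ℕ) := .node ndTree358 ndTree359

/-- A part of the table. -/
def ndTree361 : Tr (List ℕ) := .node (.leaf nd230) (.leaf nd742)

/-- A part of the table. -/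
def ndTree362 : Tr (List ℕ) := .node ndTree361 (.leaf nd486)

/-- A part of the table. -/
def ndTree363 : Tr (List ℕ) := .node ndTree360 ndTree362

/-- A part of the table. -/
def ndTree364 : Tr (List ℕ) := .node ndTree357 ndTree363

/-- A part of the table. -/
def ndTree365 : Tr (List ℕ) := .node ndTree351 ndTree364

/-- A part of the table. -/
def ndTree366 : Tr (List ℕ) := .node (.leaf nd22) (.leaf nd534)

/-- A part of the table. -/
def ndTree367 : Tr (List ℕ) := .node (.leaf nd278) (.leaf nd790)

/-- A part of the table. -/
def ndTree368 : Tr (List ℕ) := .node ndTree366 ndTree367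

/-- A part of the table. -/
def ndTree369 : Tr (List ℕ) := .node (.leaf nd150) (.leaf nd662)

/-- A part of the table. -/
def ndTree370 : Tr (List ℕ) := .node ndTree369 (.leaf nd406)

/-- A part of the table. -/
def ndTree371 : Tr (List ℕ) := .node ndTree368 ndTree370

/-- A part of the table. -/
def ndTree372 : Tr (List ℕ) := .node (.leaf nd86) (.leaf nd598)

/-- A part of the table. -/
def ndTree373 : Tr (List ℕ) := .node (.leaf nd342) (.leaf nd854)

/-- A part of the table. -/
def ndTree374 : Tr (List ℕ) := .node ndTree372 ndTree373

/-- A part of the table. -/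
def ndTree375 : Tr (List ℕ) := .node (.leaf nd214) (.leaf nd726)

/-- A part of the table. -/
def ndTree376 : Tr (List ℕ) := .node ndTree375 (.leaf nd470)

/-- A part of the table. -/
def ndTree377 : Tr (List ℕ) := .node ndTree374 ndTree376

/-- A part of the table. -/
def ndTree378 : Tr (List ℕ) := .node ndTree371 ndTree377

/-- A part of the table. -/
def ndTree379 : Tr (List ℕ) := .node (.leaf nd54) (.leaf nd566)

/-- A part of the table. -/
def ndTree380 : Tr (List ℕ) := .node (.leaf nd310) (.leaf nd822)

/-- A part of the table. -/
def ndTree381 : Tr (List ℕ) := .node ndTree379 ndTree380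

/-- A part of the table. -/
def ndTree382 : Tr (List ℕ) := .node (.leaf nd182) (.leaf nd694)

/-- A part of the table. -/
def ndTree383 : Tr (List ℕ) := .node ndTree382 (.leaf nd438)

/-- A part of the table. -/
def ndTree384 : Tr (List ℕ) := .node ndTree381 ndTree383

/-- A part of the table. -/
def ndTree385 : Tr (List ℕ) := .node (.leaf nd118) (.leaf nd630)

/-- A part of the table. -/
def ndTree386 : Tr (List ℕ) := .node (.leaf nd374) (.leaf nd886)

/-- A part of the table. -/
def ndTree387 : Tr (List ℕ) := .node ndTree385 ndTree386

/-- A part of the table. -/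
def ndTree388 : Tr (List ℕ) := .node (.leaf nd246) (.leaf nd758)

/-- A part of the table. -/
def ndTree389 : Tr (List ℕ) := .node ndTree388 (.leaf nd502)

/-- A part of the table. -/
def ndTree390 : Tr (List ℕ) := .node ndTree387 ndTree389

/-- A part of the table. -/
def ndTree391 : Tr (List ℕ) := .node ndTree384 ndTree390

/-- A part of the table. -/
def ndTree392 : Tr (List ℕ) := .node ndTree378 ndTree391

/-- A part of the table. -/
def ndTree393 : Tr (List ℕ) := .node ndTree365 ndTree392

/-- A part of the table. -/
def ndTree394 : Tr (List ℕ) := .node (.leaf nd14) (.leaf nd526)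

/-- A part of the table. -/
def ndTree395 : Tr (List ℕ) := .node (.leaf nd270) (.leaf nd782)

/-- A part of the table. -/
def ndTree396 : Tr (List ℕ) := .node ndTree394 ndTree395

/-- A part of the table. -/
def ndTree397 : Tr (List ℕ) := .node (.leaf nd142) (.leaf nd654)

/-- A part of the table. -/
def ndTree398 : Tr (List ℕ) := .node ndTree397 (.leaf nd398)

/-- A part of the table. -/
def ndTree399 : Tr (List ℕ) := .node ndTree396 ndTree398

/-- A part of the table. -/
def ndTree400 : Tr (List ℕ) := .node (.leaf nd78) (.leaf nd590)

/-- A part of the table. -/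
def ndTree401 : Tr (List ℕ) := .node (.leaf nd334) (.leaf nd846)

/-- A part of the table. -/
def ndTree402 : Tr (List ℕ) := .node ndTree400 ndTree401

/-- A part of the table. -/
def ndTree403 : Tr (List ℕ) := .node (.leaf nd206) (.leaf nd718)

/-- A part of the table. -/
def ndTree404 : Tr (List ℕ) := .node ndTree403 (.leaf nd462)

/-- A part of the table. -/
def ndTree405 : Tr (List ℕ) := .node ndTree402 ndTree404

/-- A part of the table. -/
def ndTree406 : Tr (List ℕ) := .node ndTree399 ndTree405

/-- A part of the table. -/
def ndTree407 : Tr (List ℕ) := .node (.leaf nd46) (.leaf nd558)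

/-- A part of the table. -/
def ndTree408 : Tr (List ℕ) := .node (.leaf nd302) (.leaf nd814)

/-- A part of the table. -/
def ndTree409 : Tr (List ℕ) := .node ndTree407 ndTree408

/-- A part of the table. -/
def ndTree410 : Tr (List ℕ) := .node (.leaf nd174) (.leaf nd686)

/-- A part of the table. -/
def ndTree411 : Tr (List ℕ) := .node ndTree410 (.leaf nd430)

/-- A part of the table. -/
def ndTree412 : Tr (List ℕ) := .node ndTree409 ndTree411

/-- A part of the table. -/
def ndTree413 : Tr (List ℕ) := .node (.leaf nd110) (.leaf nd622)

/-- A part of the table. -/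
def ndTree414 : Tr (List ℕ) := .node (.leaf nd366) (.leaf nd878)

/-- A part of the table. -/
def ndTree415 : Tr (List ℕ) := .node ndTree413 ndTree414

/-- A part of the table. -/
def ndTree416 : Tr (List ℕ) := .node (.leaf nd238) (.leaf nd750)

/-- A part of the table. -/
def ndTree417 : Tr (List ℕ) := .node ndTree416 (.leaf nd494)

/-- A part of the table. -/
def ndTree418 : Tr (List ℕ) := .node ndTree415 ndTree417

/-- A part of the table. -/
def ndTree419 : Tr (List ℕ) := .node ndTree412 ndTree418

/-- A part of the table. -/
def ndTree420 : Tr (List ℕ) := .node ndTree406 ndTree419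

/-- A part of the table. -/
def ndTree421 : Tr (List ℕ) := .node (.leaf nd30) (.leaf nd542)

/-- A part of the table. -/
def ndTree422 : Tr (List ℕ) := .node (.leaf nd286) (.leaf nd798)

/-- A part of the table. -/
def ndTree423 : Tr (List ℕ) := .node ndTree421 ndTree422

/-- A part of the table. -/
def ndTree424 : Tr (List ℕ) := .node (.leaf nd158) (.leaf nd670)

/-- A part of the table. -/
def ndTree425 : Tr (List ℕ) := .node ndTree424 (.leaf nd414)

/-- A part of the table. -/
def ndTree426 : Tr (List ℕ) := .node ndTree423 ndTree425

/-- A part of the table. -/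
def ndTree427 : Tr (List ℕ) := .node (.leaf nd94) (.leaf nd606)

/-- A part of the table. -/
def ndTree428 : Tr (List ℕ) := .node (.leaf nd350) (.leaf nd862)

/-- A part of the table. -/
def ndTree429 : Tr (List ℕ) := .node ndTree427 ndTree428

/-- A part of the table. -/
def ndTree430 : Tr (List ℕ) := .node (.leaf nd222) (.leaf nd734)

/-- A part of the table. -/
def ndTree431 : Tr (List ℕ) := .node ndTree430 (.leaf nd478)

/-- A part of the table. -/
def ndTree432 : Tr (List ℕ) := .node ndTree429 ndTree431

/-- A part of the table. -/
def ndTree433 : Tr (List ℕ) := .node ndTree426 ndTree432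

/-- A part of the table. -/
def ndTree434 : Tr (List ℕ) := .node (.leaf nd62) (.leaf nd574)

/-- A part of the table. -/
def ndTree435 : Tr (List ℕ) := .node (.leaf nd318) (.leaf nd830)

/-- A part of the table. -/
def ndTree436 : Tr (List ℕ) := .node ndTree434 ndTree435

/-- A part of the table. -/
def ndTree437 : Tr (List ℕ) := .node (.leaf nd190) (.leaf nd702)

/-- A part of the table. -/
def ndTree438 : Tr (List ℕ) := .node ndTree437 (.leaf nd446)

/-- A part of the table. -/
def ndTree439 : Tr (List ℕ) := .node ndTree436 ndTree438

/-- A part of the table. -/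
def ndTree440 : Tr (List ℕ) := .node (.leaf nd126) (.leaf nd638)

/-- A part of the table. -/
def ndTree441 : Tr (List ℕ) := .node (.leaf nd382) (.leaf nd894)

/-- A part of the table. -/
def ndTree442 : Tr (List ℕ) := .node ndTree440 ndTree441

/-- A part of the table. -/
def ndTree443 : Tr (List ℕ) := .node (.leaf nd254) (.leaf nd766)

/-- A part of the table. -/
def ndTree444 : Tr (List ℕ) := .node ndTree443 (.leaf nd510)

/-- A part of the table. -/
def ndTree445 : Tr (List ℕ) := .node ndTree442 ndTree444

/-- A part of the table. -/
def ndTree446 : Tr (List ℕ) := .node ndTree439 ndTree445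

/-- A part of the table. -/
def ndTree447 : Tr (List ℕ) := .node ndTree433 ndTree446

/-- A part of the table. -/
def ndTree448 : Tr (List ℕ) := .node ndTree420 ndTree447

/-- A part of the table. -/
def ndTree449 : Tr (List ℕ) := .node ndTree393 ndTree448

/-- A part of the table. -/
def ndTree450 : Tr (List ℕ) := .node ndTree337 ndTree449

/-- A part of the table. -/
def ndTree451 : Tr (List ℕ) := .node ndTree225 ndTree450

/-- A part of the table. -/
def ndTree452 : Tr (List ℕ) := .node (.leaf nd1) (.leaf nd513)

/-- A part of the table. -/
def ndTree453 : Tr (List ℕ) := .node (.leaf nd257) (.leaf nd769)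

/-- A part of the table. -/
def ndTree454 : Tr (List ℕ) := .node ndTree452 ndTree453

/-- A part of the table. -/
def ndTree455 : Tr (List ℕ) := .node (.leaf nd129) (.leaf nd641)

/-- A part of the table. -/
def ndTree456 : Tr (List ℕ) := .node (.leaf nd385) (.leaf nd897)

/-- A part of the table. -/
def ndTree457 : Tr (List ℕ) := .node ndTree455 ndTree456

/-- A part of the table. -/
def ndTree458 : Tr (List ℕ) := .node ndTree454 ndTree457

/-- A part of the table. -/
def ndTree459 : Tr (List ℕ) := .node (.leaf nd65) (.leaf nd577)

/-- A part of the table. -/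
def ndTree460 : Tr (List ℕ) := .node (.leaf nd321) (.leaf nd833)

/-- A part of the table. -/
def ndTree461 : Tr (List ℕ) := .node ndTree459 ndTree460

/-- A part of the table. -/
def ndTree462 : Tr (List ℕ) := .node (.leaf nd193) (.leaf nd705)

/-- A part of the table. -/
def ndTree463 : Tr (List ℕ) := .node ndTree462 (.leaf nd449)

/-- A part of the table. -/
def ndTree464 : Tr (List ℕ) := .node ndTree461 ndTree463

/-- A part of the table. -/
def ndTree465 : Tr (List ℕ) := .node ndTree458 ndTree464

/-- A part of the table. -/
def ndTree466 : Tr (List ℕ) := .node (.leaf nd33) (.leaf nd545)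

/-- A part of the table. -/
def ndTree467 : Tr (List ℕ) := .node (.leaf nd289) (.leaf nd801)

/-- A part of the table. -/
def ndTree468 : Tr (List ℕ) := .node ndTree466 ndTree467

/-- A part of the table. -/
def ndTree469 : Tr (List ℕ) := .node (.leaf nd161) (.leaf nd673)

/-- A part of the table. -/
def ndTree470 : Tr (List ℕ) := .node ndTree469 (.leaf nd417)

/-- A part of the table. -/
def ndTree471 : Tr (List ℕ) := .node ndTree468 ndTree470

/-- A part of the table. -/
def ndTree472 : Tr (List ℕ) := .node (.leaf nd97) (.leaf nd609)

/-- A part of the table. -/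
def ndTree473 : Tr (List ℕ) := .node (.leaf nd353) (.leaf nd865)

/-- A part of the table. -/
def ndTree474 : Tr (List ℕ) := .node ndTree472 ndTree473

/-- A part of the table. -/
def ndTree475 : Tr (List ℕ) := .node (.leaf nd225) (.leaf nd737)

/-- A part of the table. -/
def ndTree476 : Tr (List ℕ) := .node ndTree475 (.leaf nd481)

/-- A part of the table. -/
def ndTree477 : Tr (List ℕ) := .node ndTree474 ndTree476

/-- A part of the table. -/
def ndTree478 : Tr (List ℕ) := .node ndTree471 ndTree477

/-- A part of the table. -/
def ndTree479 : Tr (List ℕ) := .node ndTree465 ndTree478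

/-- A part of the table. -/
def ndTree480 : Tr (List ℕ) := .node (.leaf nd17) (.leaf nd529)

/-- A part of the table. -/
def ndTree481 : Tr (List ℕ) := .node (.leaf nd273) (.leaf nd785)

/-- A part of the table. -/
def ndTree482 : Tr (List ℕ) := .node ndTree480 ndTree481

/-- A part of the table. -/
def ndTree483 : Tr (List ℕ) := .node (.leaf nd145) (.leaf nd657)

/-- A part of the table. -/
def ndTree484 : Tr (List ℕ) := .node ndTree483 (.leaf nd401)

/-- A part of the table. -/
def ndTree485 : Tr (List ℕ) := .node ndTree482 ndTree484

/-- A part of the table. -/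
def ndTree486 : Tr (List ℕ) := .node (.leaf nd81) (.leaf nd593)

/-- A part of the table. -/
def ndTree487 : Tr (List ℕ) := .node (.leaf nd337) (.leaf nd849)

/-- A part of the table. -/
def ndTree488 : Tr (List ℕ) := .node ndTree486 ndTree487

/-- A part of the table. -/
def ndTree489 : Tr (List ℕ) := .node (.leaf nd209) (.leaf nd721)

/-- A part of the table. -/
def ndTree490 : Tr (List ℕ) := .node ndTree489 (.leaf nd465)

/-- A part of the table. -/
def ndTree491 : Tr (List ℕ) := .node ndTree488 ndTree490

/-- A part of the table. -/
def ndTree492 : Tr (List ℕ) := .node ndTree485 ndTree491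

/-- A part of the table. -/
def ndTree493 : Tr (List ℕ) := .node (.leaf nd49) (.leaf nd561)

/-- A part of the table. -/
def ndTree494 : Tr (List ℕ) := .node (.leaf nd305) (.leaf nd817)

/-- A part of the table. -/
def ndTree495 : Tr (List ℕ) := .node ndTree493 ndTree494

/-- A part of the table. -/
def ndTree496 : Tr (List ℕ) := .node (.leaf nd177) (.leaf nd689)

/-- A part of the table. -/
def ndTree497 : Tr (List ℕ) := .node ndTree496 (.leaf nd433)

/-- A part of the table. -/
def ndTree498 : Tr (List ℕ) := .node ndTree495 ndTree497

/-- A part of the table. -/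
def ndTree499 : Tr (List ℕ) := .node (.leaf nd113) (.leaf nd625)

/-- A part of the table. -/
def ndTree500 : Tr (List ℕ) := .node (.leaf nd369) (.leaf nd881)

/-- A part of the table. -/
def ndTree501 : Tr (List ℕ) := .node ndTree499 ndTree500

/-- A part of the table. -/
def ndTree502 : Tr (List ℕ) := .node (.leaf nd241) (.leaf nd753)

/-- A part of the table. -/
def ndTree503 : Tr (List ℕ) := .node ndTree502 (.leaf nd497)

/-- A part of the table. -/
def ndTree504 : Tr (List ℕ) := .node ndTree501 ndTree503

/-- A part of the table. -/
def ndTree505 : Tr (List ℕ) := .node ndTree498 ndTree504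

/-- A part of the table. -/
def ndTree506 : Tr (List ℕ) := .node ndTree492 ndTree505

/-- A part of the table. -/
def ndTree507 : Tr (List ℕ) := .node ndTree479 ndTree506

/-- A part of the table. -/
def ndTree508 : Tr (List ℕ) := .node (.leaf nd9) (.leaf nd521)

/-- A part of the table. -/
def ndTree509 : Tr (List ℕ) := .node (.leaf nd265) (.leaf nd777)

/-- A part of the table. -/
def ndTree510 : Tr (List ℕ) := .node ndTree508 ndTree509

/-- A part of the table. -/
def ndTree511 : Tr (List ℕ) := .node (.leaf nd137) (.leaf nd649)

/-- A part of the table. -/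
def ndTree512 : Tr (List ℕ) := .node ndTree511 (.leaf nd393)

/-- A part of the table. -/
def ndTree513 : Tr (List ℕ) := .node ndTree510 ndTree512

/-- A part of the table. -/
def ndTree514 : Tr (List ℕ) := .node (.leaf nd73) (.leaf nd585)

/-- A part of the table. -/
def ndTree515 : Tr (List ℕ) := .node (.leaf nd329) (.leaf nd841)

/-- A part of the table. -/
def ndTree516 : Tr (List ℕ) := .node ndTree514 ndTree515

/-- A part of the table. -/
def ndTree517 : Tr (List ℕ) := .node (.leaf nd201) (.leaf nd713)

/-- A part of the table. -/
def ndTree518 : Tr (List ℕ) := .node ndTree517 (.leaf nd457)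

/-- A part of the table. -/
def ndTree519 : Tr (List ℕ) := .node ndTree516 ndTree518

/-- A part of the table. -/
def ndTree520 : Tr (List ℕ) := .node ndTree513 ndTree519

/-- A part of the table. -/
def ndTree521 : Tr (List ℕ) := .node (.leaf nd41) (.leaf nd553)

/-- A part of the table. -/
def ndTree522 : Tr (List ℕ) := .node (.leaf nd297) (.leaf nd809)

/-- A part of the table. -/
def ndTree523 : Tr (List ℕ) := .node ndTree521 ndTree522

/-- A part of the table. -/
def ndTree524 : Tr (List ℕ) := .node (.leaf nd169) (.leaf nd681)

/-- A part of the table. -/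
def ndTree525 : Tr (List ℕ) := .node ndTree524 (.leaf nd425)

/-- A part of the table. -/
def ndTree526 : Tr (List ℕ) := .node ndTree523 ndTree525

/-- A part of the table. -/
def ndTree527 : Tr (List ℕ) := .node (.leaf nd105) (.leaf nd617)

/-- A part of the table. -/
def ndTree528 : Tr (List ℕ) := .node (.leaf nd361) (.leaf nd873)

/-- A part of the table. -/
def ndTree529 : Tr (List ℕ) := .node ndTree527 ndTree528

/-- A part of the table. -/
def ndTree530 : Tr (List ℕ) := .node (.leaf nd233) (.leaf nd745)

/-- A part of the table. -/
def ndTree531 : Tr (List ℕ) := .node ndTree530 (.leaf nd489)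

/-- A part of the table. -/
def ndTree532 : Tr (List ℕ) := .node ndTree529 ndTree531

/-- A part of the table. -/
def ndTree533 : Tr (List ℕ) := .node ndTree526 ndTree532

/-- A part of the table. -/
def ndTree534 : Tr (List ℕ) := .node ndTree520 ndTree533

/-- A part of the table. -/
def ndTree535 : Tr (List ℕ) := .node (.leaf nd25) (.leaf nd537)

/-- A part of the table. -/
def ndTree536 : Tr (List ℕ) := .node (.leaf nd281) (.leaf nd793)

/-- A part of the table. -/
def ndTree537 : Tr (List ℕ) := .node ndTree535 ndTree536

/-- A part of the table. -/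
def ndTree538 : Tr (List ℕ) := .node (.leaf nd153) (.leaf nd665)

/-- A part of the table. -/
def ndTree539 : Tr (List ℕ) := .node ndTree538 (.leaf nd409)

/-- A part of the table. -/
def ndTree540 : Tr (List ℕ) := .node ndTree537 ndTree539

/-- A part of the table. -/
def ndTree541 : Tr (List ℕ) := .node (.leaf nd89) (.leaf nd601)

/-- A part of the table. -/
def ndTree542 : Tr (List ℕ) := .node (.leaf nd345) (.leaf nd857)

/-- A part of the table. -/
def ndTree543 : Tr (List ℕ) := .node ndTree541 ndTree542

/-- A part of the table. -/
def ndTree544 : Tr (List ℕ) := .node (.leaf nd217) (.leaf nd729)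

/-- A part of the table. -/
def ndTree545 : Tr (List ℕ) := .node ndTree544 (.leaf nd473)

/-- A part of the table. -/
def ndTree546 : Tr (List ℕ) := .node ndTree543 ndTree545

/-- A part of the table. -/
def ndTree547 : Tr (List ℕ) := .node ndTree540 ndTree546

/-- A part of the table. -/
def ndTree548 : Tr (List ℕ) := .node (.leaf nd57) (.leaf nd569)

/-- A part of the table. -/
def ndTree549 : Tr (List ℕ) := .node (.leaf nd313) (.leaf nd825)

/-- A part of the table. -/
def ndTree550 : Tr (List ℕ) := .node ndTree548 ndTree549

/-- A part of the table. -/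
def ndTree551 : Tr (List ℕ) := .node (.leaf nd185) (.leaf nd697)

/-- A part of the table. -/
def ndTree552 : Tr (List ℕ) := .node ndTree551 (.leaf nd441)

/-- A part of the table. -/
def ndTree553 : Tr (List ℕ) := .node ndTree550 ndTree552

/-- A part of the table. -/
def ndTree554 : Tr (List ℕ) := .node (.leaf nd121) (.leaf nd633)

/-- A part of the table. -/
def ndTree555 : Tr (List ℕ) := .node (.leaf nd377) (.leaf nd889)

/-- A part of the table. -/
def ndTree556 : Tr (List ℕ) := .node ndTree554 ndTree555

/-- A part of the table. -/
def ndTree557 : Tr (List ℕ) := .node (.leaf nd249) (.leaf nd761)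

/-- A part of the table. -/
def ndTree558 : Tr (List ℕ) := .node ndTree557 (.leaf nd505)

/-- A part of the table. -/
def ndTree559 : Tr (List ℕ) := .node ndTree556 ndTree558

/-- A part of the table. -/
def ndTree560 : Tr (List ℕ) := .node ndTree553 ndTree559

/-- A part of the table. -/
def ndTree561 : Tr (List ℕ) := .node ndTree547 ndTree560

/-- A part of the table. -/
def ndTree562 : Tr (List ℕ) := .node ndTree534 ndTree561

/-- A part of the table. -/
def ndTree563 : Tr (List ℕ) := .node ndTree507 ndTree562

/-- A part of the table. -/
def ndTree564 : Tr (List ℕ) := .node (.leaf nd5) (.leaf nd517)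

/-- A part of the table. -/
def ndTree565 : Tr (List ℕ) := .node (.leaf nd261) (.leaf nd773)

/-- A part of the table. -/
def ndTree566 : Tr (List ℕ) := .node ndTree564 ndTree565

/-- A part of the table. -/
def ndTree567 : Tr (List ℕ) := .node (.leaf nd133) (.leaf nd645)

/-- A part of the table. -/
def ndTree568 : Tr (List ℕ) := .node (.leaf nd389) (.leaf nd901)

/-- A part of the table. -/
def ndTree569 : Tr (List ℕ) := .node ndTree567 ndTree568

/-- A part of the table. -/
def ndTree570 : Tr (List ℕ) := .node ndTree566 ndTree569

/-- A part of the table. -/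
def ndTree571 : Tr (List ℕ) := .node (.leaf nd69) (.leaf nd581)

/-- A part of the table. -/
def ndTree572 : Tr (List ℕ) := .node (.leaf nd325) (.leaf nd837)

/-- A part of the table. -/
def ndTree573 : Tr (List ℕ) := .node ndTree571 ndTree572

/-- A part of the table. -/
def ndTree574 : Tr (List ℕ) := .node (.leaf nd197) (.leaf nd709)

/-- A part of the table. -/
def ndTree575 : Tr (List ℕ) := .node ndTree574 (.leaf nd453)

/-- A part of the table. -/
def ndTree576 : Tr (List ℕ) := .node ndTree573 ndTree575

/-- A part of the table. -/
def ndTree577 : Tr (List ℕ) := .node ndTree570 ndTree576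

/-- A part of the table. -/
def ndTree578 : Tr (List ℕ) := .node (.leaf nd37) (.leaf nd549)

/-- A part of the table. -/
def ndTree579 : Tr (List ℕ) := .node (.leaf nd293) (.leaf nd805)

/-- A part of the table. -/
def ndTree580 : Tr (List ℕ) := .node ndTree578 ndTree579

/-- A part of the table. -/
def ndTree581 : Tr (List ℕ) := .node (.leaf nd165) (.leaf nd677)

/-- A part of the table. -/
def ndTree582 : Tr (List ℕ) := .node ndTree581 (.leaf nd421)

/-- A part of the table. -/
def ndTree583 : Tr (List ℕ) := .node ndTree580 ndTree582

/-- A part of the table. -/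
def ndTree584 : Tr (List ℕ) := .node (.leaf nd101) (.leaf nd613)

/-- A part of the table. -/
def ndTree585 : Tr (List ℕ) := .node (.leaf nd357) (.leaf nd869)

/-- A part of the table. -/
def ndTree586 : Tr (List ℕ) := .node ndTree584 ndTree585

/-- A part of the table. -/
def ndTree587 : Tr (List ℕ) := .node (.leaf nd229) (.leaf nd741)

/-- A part of the table. -/
def ndTree588 : Tr (List ℕ) := .node ndTree587 (.leaf nd485)

/-- A part of the table. -/
def ndTree589 : Tr (List ℕ) := .node ndTree586 ndTree588

/-- A part of the table. -/
def ndTree590 : Tr (List ℕ) := .node ndTree583 ndTree589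

/-- A part of the table. -/
def ndTree591 : Tr (List ℕ) := .node ndTree577 ndTree590

/-- A part of the table. -/
def ndTree592 : Tr (List ℕ) := .node (.leaf nd21) (.leaf nd533)

/-- A part of the table. -/
def ndTree593 : Tr (List ℕ) := .node (.leaf nd277) (.leaf nd789)

/-- A part of the table. -/
def ndTree594 : Tr (List ℕ) := .node ndTree592 ndTree593

/-- A part of the table. -/
def ndTree595 : Tr (List ℕ) := .node (.leaf nd149) (.leaf nd661)

/-- A part of the table. -/
def ndTree596 : Tr (List ℕ) := .node ndTree595 (.leaf nd405)

/-- A part of the table. -/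
def ndTree597 : Tr (List ℕ) := .node ndTree594 ndTree596

/-- A part of the table. -/
def ndTree598 : Tr (List ℕ) := .node (.leaf nd85) (.leaf nd597)

/-- A part of the table. -/
def ndTree599 : Tr (List ℕ) := .node (.leaf nd341) (.leaf nd853)

/-- A part of the table. -/
def ndTree600 : Tr (List ℕ) := .node ndTree598 ndTree599

/-- A part of the table. -/
def ndTree601 : Tr (List ℕ) := .node (.leaf nd213) (.leaf nd725)

/-- A part of the table. -/
def ndTree602 : Tr (List ℕ) := .node ndTree601 (.leaf nd469)

/-- A part of the table. -/
def ndTree603 : Tr (List ℕ) := .node ndTree600 ndTree602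

/-- A part of the table. -/
def ndTree604 : Tr (List ℕ) := .node ndTree597 ndTree603

/-- A part of the table. -/
def ndTree605 : Tr (List ℕ) := .node (.leaf nd53) (.leaf nd565)

/-- A part of the table. -/
def ndTree606 : Tr (List ℕ) := .node (.leaf nd309) (.leaf nd821)

/-- A part of the table. -/
def ndTree607 : Tr (List ℕ) := .node ndTree605 ndTree606

/-- A part of the table. -/
def ndTree608 : Tr (List ℕ) := .node (.leaf nd181) (.leaf nd693)

/-- A part of the table. -/
def ndTree609 : Tr (List ℕ) := .node ndTree608 (.leaf nd437)

/-- A part of the table. -/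
def ndTree610 : Tr (List ℕ) := .node ndTree607 ndTree609

/-- A part of the table. -/
def ndTree611 : Tr (List ℕ) := .node (.leaf nd117) (.leaf nd629)

/-- A part of the table. -/
def ndTree612 : Tr (List ℕ) := .node (.leaf nd373) (.leaf nd885)

/-- A part of the table. -/
def ndTree613 : Tr (List ℕ) := .node ndTree611 ndTree612

/-- A part of the table. -/
def ndTree614 : Tr (List ℕ) := .node (.leaf nd245) (.leaf nd757)

/-- A part of the table. -/
def ndTree615 : Tr (List ℕ) := .node ndTree614 (.leaf nd501)

/-- A part of the table. -/
def ndTree616 : Tr (List ℕ) := .node ndTree613 ndTree615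

/-- A part of the table. -/
def ndTree617 : Tr (List ℕ) := .node ndTree610 ndTree616

/-- A part of the table. -/
def ndTree618 : Tr (List ℕ) := .node ndTree604 ndTree617

/-- A part of the table. -/
def ndTree619 : Tr (List ℕ) := .node ndTree591 ndTree618

/-- A part of the table. -/
def ndTree620 : Tr (List ℕ) := .node (.leaf nd13) (.leaf nd525)

/-- A part of the table. -/
def ndTree621 : Tr (List ℕ) := .node (.leaf nd269) (.leaf nd781)

/-- A part of the table. -/
def ndTree622 : Tr (List ℕ) := .node ndTree620 ndTree621

/-- A part of the table. -/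
def ndTree623 : Tr (List ℕ) := .node (.leaf nd141) (.leaf nd653)

/-- A part of the table. -/
def ndTree624 : Tr (List ℕ) := .node ndTree623 (.leaf nd397)

/-- A part of the table. -/
def ndTree625 : Tr (List ℕ) := .node ndTree622 ndTree624

/-- A part of the table. -/
def ndTree626 : Tr (List ℕ) := .node (.leaf nd77) (.leaf nd589)

/-- A part of the table. -/
def ndTree627 : Tr (List ℕ) := .node (.leaf nd333) (.leaf nd845)

/-- A part of the table. -/
def ndTree628 : Tr (List ℕ) := .node ndTree626 ndTree627

/-- A part of the table. -/
def ndTree629 : Tr (List ℕ) := .node (.leaf nd205) (.leaf nd717)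

/-- A part of the table. -/
def ndTree630 : Tr (List ℕ) := .node ndTree629 (.leaf nd461)

/-- A part of the table. -/
def ndTree631 : Tr (List ℕ) := .node ndTree628 ndTree630

/-- A part of the table. -/
def ndTree632 : Tr (List ℕ) := .node ndTree625 ndTree631

/-- A part of the table. -/
def ndTree633 : Tr (List ℕ) := .node (.leaf nd45) (.leaf nd557)

/-- A part of the table. -/
def ndTree634 : Tr (List ℕ) := .node (.leaf nd301) (.leaf nd813)

/-- A part of the table. -/
def ndTree635 : Tr (List ℕ) := .node ndTree633 ndTree634

/-- A part of the table. -/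
def ndTree636 : Tr (List ℕ) := .node (.leaf nd173) (.leaf nd685)

/-- A part of the table. -/
def ndTree637 : Tr (List ℕ) := .node ndTree636 (.leaf nd429)

/-- A part of the table. -/
def ndTree638 : Tr (List ℕ) := .node ndTree635 ndTree637

/-- A part of the table. -/
def ndTree639 : Tr (List ℕ) := .node (.leaf nd109) (.leaf nd621)

/-- A part of the table. -/
def ndTree640 : Tr (List ℕ) := .node (.leaf nd365) (.leaf nd877)

/-- A part of the table. -/
def ndTree641 : Tr (List ℕ) := .node ndTree639 ndTree640

/-- A part of the table. -/
def ndTree642 : Tr (List ℕ) := .node (.leaf nd237) (.leaf nd749)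

/-- A part of the table. -/
def ndTree643 : Tr (List ℕ) := .node ndTree642 (.leaf nd493)

/-- A part of the table. -/
def ndTree644 : Tr (List ℕ) := .node ndTree641 ndTree643

/-- A part of the table. -/
def ndTree645 : Tr (List ℕ) := .node ndTree638 ndTree644

/-- A part of the table. -/
def ndTree646 : Tr (List ℕ) := .node ndTree632 ndTree645

/-- A part of the table. -/
def ndTree647 : Tr (List ℕ) := .node (.leaf nd29) (.leaf nd541)

/-- A part of the table. -/
def ndTree648 : Tr (List ℕ) := .node (.leaf nd285) (.leaf nd797)

/-- A part of the table. -/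
def ndTree649 : Tr (List ℕ) := .node ndTree647 ndTree648

/-- A part of the table. -/
def ndTree650 : Tr (List ℕ) := .node (.leaf nd157) (.leaf nd669)

/-- A part of the table. -/
def ndTree651 : Tr (List ℕ) := .node ndTree650 (.leaf nd413)

/-- A part of the table. -/
def ndTree652 : Tr (List ℕ) := .node ndTree649 ndTree651

/-- A part of the table. -/
def ndTree653 : Tr (List ℕ) := .node (.leaf nd93) (.leaf nd605)

/-- A part of the table. -/
def ndTree654 : Tr (List ℕ) := .node (.leaf nd349) (.leaf nd861)

/-- A part of the table. -/
def ndTree655 : Tr (List ℕ) := .node ndTree653 ndTree654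

/-- A part of the table. -/
def ndTree656 : Tr (List ℕ) := .node (.leaf nd221) (.leaf nd733)

/-- A part of the table. -/
def ndTree657 : Tr (List ℕ) := .node ndTree656 (.leaf nd477)

/-- A part of the table. -/
def ndTree658 : Tr (List ℕ) := .node ndTree655 ndTree657

/-- A part of the table. -/
def ndTree659 : Tr (List ℕ) := .node ndTree652 ndTree658

/-- A part of the table. -/
def ndTree660 : Tr (List ℕ) := .node (.leaf nd61) (.leaf nd573)

/-- A part of the table. -/
def ndTree661 : Tr (List ℕ) := .node (.leaf nd317) (.leaf nd829)

/-- A part of the table. -/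
def ndTree662 : Tr (List ℕ) := .node ndTree660 ndTree661

/-- A part of the table. -/
def ndTree663 : Tr (List ℕ) := .node (.leaf nd189) (.leaf nd701)

/-- A part of the table. -/
def ndTree664 : Tr (List ℕ) := .node ndTree663 (.leaf nd445)

/-- A part of the table. -/
def ndTree665 : Tr (List ℕ) := .node ndTree662 ndTree664

/-- A part of the table. -/
def ndTree666 : Tr (List ℕ) := .node (.leaf nd125) (.leaf nd637)

/-- A part of the table. -/
def ndTree667 : Tr (List ℕ) := .node (.leaf nd381) (.leaf nd893)

/-- A part of the table. -/
def ndTree668 : Tr (List ℕ) := .node ndTree666 ndTree667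

/-- A part of the table. -/
def ndTree669 : Tr (List ℕ) := .node (.leaf nd253) (.leaf nd765)

/-- A part of the table. -/
def ndTree670 : Tr (List ℕ) := .node ndTree669 (.leaf nd509)

/-- A part of the table. -/
def ndTree671 : Tr (List ℕ) := .node ndTree668 ndTree670

/-- A part of the table. -/
def ndTree672 : Tr (List ℕ) := .node ndTree665 ndTree671

/-- A part of the table. -/
def ndTree673 : Tr (List ℕ) := .node ndTree659 ndTree672

/-- A part of the table. -/
def ndTree674 : Tr (List ℕ) := .node ndTree646 ndTree673

/-- A part of the table. -/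
def ndTree675 : Tr (List ℕ) := .node ndTree619 ndTree674

/-- A part of the table. -/
def ndTree676 : Tr (List ℕ) := .node ndTree563 ndTree675

/-- A part of the table. -/
def ndTree677 : Tr (List ℕ) := .node (.leaf nd3) (.leaf nd515)

/-- A part of the table. -/
def ndTree678 : Tr (List ℕ) := .node (.leaf nd259) (.leaf nd771)

/-- A part of the table. -/
def ndTree679 : Tr (List ℕ) := .node ndTree677 ndTree678

/-- A part of the table. -/
def ndTree680 : Tr (List ℕ) := .node (.leaf nd131) (.leaf nd643)

/-- A part of the table. -/
def ndTree681 : Tr (List ℕ) := .node (.leaf nd387) (.leaf nd899)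

/-- A part of the table. -/
def ndTree682 : Tr (List ℕ) := .node ndTree680 ndTree681

/-- A part of the table. -/
def ndTree683 : Tr (List ℕ) := .node ndTree679 ndTree682

/-- A part of the table. -/
def ndTree684 : Tr (List ℕ) := .node (.leaf nd67) (.leaf nd579)

/-- A part of the table. -/
def ndTree685 : Tr (List ℕ) := .node (.leaf nd323) (.leaf nd835)

/-- A part of the table. -/
def ndTree686 : Tr (List ℕ) := .node ndTree684 ndTree685

/-- A part of the table. -/
def ndTree687 : Tr (List ℕ) := .node (.leaf nd195) (.leaf nd707)

/-- A part of the table. -/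
def ndTree688 : Tr (List ℕ) := .node ndTree687 (.leaf nd451)

/-- A part of the table. -/
def ndTree689 : Tr (List ℕ) := .node ndTree686 ndTree688

/-- A part of the table. -/
def ndTree690 : Tr (List ℕ) := .node ndTree683 ndTree689

/-- A part of the table. -/
def ndTree691 : Tr (List ℕ) := .node (.leaf nd35) (.leaf nd547)

/-- A part of the table. -/
def ndTree692 : Tr (List ℕ) := .node (.leaf nd291) (.leaf nd803)

/-- A part of the table. -/
def ndTree693 : Tr (List ℕ) := .node ndTree691 ndTree692

/-- A part of the table. -/
def ndTree694 : Tr (List ℕ) := .node (.leaf nd163) (.leaf nd675)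

/-- A part of the table. -/
def ndTree695 : Tr (List ℕ) := .node ndTree694 (.leaf nd419)

/-- A part of the table. -/
def ndTree696 : Tr (List ℕ) := .node ndTree693 ndTree695

/-- A part of the table. -/
def ndTree697 : Tr (List ℕ) := .node (.leaf nd99) (.leaf nd611)

/-- A part of the table. -/
def ndTree698 : Tr (List ℕ) := .node (.leaf nd355) (.leaf nd867)

/-- A part of the table. -/
def ndTree699 : Tr (List ℕ) := .node ndTree697 ndTree698

/-- A part of the table. -/
def ndTree700 : Tr (List ℕ) := .node (.leaf nd227) (.leaf nd739)

/-- A part of the table. -/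
def ndTree701 : Tr (List ℕ) := .node ndTree700 (.leaf nd483)

/-- A part of the table. -/
def ndTree702 : Tr (List ℕ) := .node ndTree699 ndTree701

/-- A part of the table. -/
def ndTree703 : Tr (List ℕ) := .node ndTree696 ndTree702

/-- A part of the table. -/
def ndTree704 : Tr (List ℕ) := .node ndTree690 ndTree703

/-- A part of the table. -/
def ndTree705 : Tr (List ℕ) := .node (.leaf nd19) (.leaf nd531)

/-- A part of the table. -/
def ndTree706 : Tr (List ℕ) := .node (.leaf nd275) (.leaf nd787)

/-- A part of the table. -/
def ndTree707 : Tr (List ℕ) := .node ndTree705 ndTree706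

/-- A part of the table. -/
def ndTree708 : Tr (List ℕ) := .node (.leaf nd147) (.leaf nd659)

/-- A part of the table. -/
def ndTree709 : Tr (List ℕ) := .node ndTree708 (.leaf nd403)

/-- A part of the table. -/
def ndTree710 : Tr (List ℕ) := .node ndTree707 ndTree709

/-- A part of the table. -/
def ndTree711 : Tr (List ℕ) := .node (.leaf nd83) (.leaf nd595)

/-- A part of the table. -/
def ndTree712 : Tr (List ℕ) := .node (.leaf nd339) (.leaf nd851)

/-- A part of the table. -/
def ndTree713 : Tr (List ℕ) := .node ndTree711 ndTree712

/-- A part of the table. -/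
def ndTree714 : Tr (List ℕ) := .node (.leaf nd211) (.leaf nd723)

/-- A part of the table. -/
def ndTree715 : Tr (List ℕ) := .node ndTree714 (.leaf nd467)

/-- A part of the table. -/
def ndTree716 : Tr (List ℕ) := .node ndTree713 ndTree715

/-- A part of the table. -/
def ndTree717 : Tr (List ℕ) := .node ndTree710 ndTree716

/-- A part of the table. -/
def ndTree718 : Tr (List ℕ) := .node (.leaf nd51) (.leaf nd563)

/-- A part of the table. -/
def ndTree719 : Tr (List ℕ) := .node (.leaf nd307) (.leaf nd819)

/-- A part of the table. -/
def ndTree720 : Tr (List ℕ) := .node ndTree718 ndTree719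

/-- A part of the table. -/
def ndTree721 : Tr (List ℕ) := .node (.leaf nd179) (.leaf nd691)

/-- A part of the table. -/
def ndTree722 : Tr (List ℕ) := .node ndTree721 (.leaf nd435)

/-- A part of the table. -/
def ndTree723 : Tr (List ℕ) := .node ndTree720 ndTree722

/-- A part of the table. -/
def ndTree724 : Tr (List ℕ) := .node (.leaf nd115) (.leaf nd627)

/-- A part of the table. -/
def ndTree725 : Tr (List ℕ) := .node (.leaf nd371) (.leaf nd883)

/-- A part of the table. -/
def ndTree726 : Tr (List ℕ) := .node ndTree724 ndTree725

/-- A part of the table. -/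
def ndTree727 : Tr (List ℕ) := .node (.leaf nd243) (.leaf nd755)

/-- A part of the table. -/
def ndTree728 : Tr (List ℕ) := .node ndTree727 (.leaf nd499)

/-- A part of the table. -/
def ndTree729 : Tr (List ℕ) := .node ndTree726 ndTree728

/-- A part of the table. -/
def ndTree730 : Tr (List ℕ) := .node ndTree723 ndTree729

/-- A part of the table. -/
def ndTree731 : Tr (List ℕ) := .node ndTree717 ndTree730

/-- A part of the table. -/
def ndTree732 : Tr (List ℕ) := .node ndTree704 ndTree731

/-- A part of the table. -/
def ndTree733 : Tr (List ℕ) := .node (.leaf nd11) (.leaf nd523)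

/-- A part of the table. -/
def ndTree734 : Tr (List ℕ) := .node (.leaf nd267) (.leaf nd779)

/-- A part of the table. -/
def ndTree735 : Tr (List ℕ) := .node ndTree733 ndTree734

/-- A part of the table. -/
def ndTree736 : Tr (List ℕ) := .node (.leaf nd139) (.leaf nd651)

/-- A part of the table. -/
def ndTree737 : Tr (List ℕ) := .node ndTree736 (.leaf nd395)

/-- A part of the table. -/
def ndTree738 : Tr (List ℕ) := .node ndTree735 ndTree737

/-- A part of the table. -/
def ndTree739 : Tr (List ℕ) := .node (.leaf nd75) (.leaf nd587)

/-- A part of the table. -/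
def ndTree740 : Tr (List ℕ) := .node (.leaf nd331) (.leaf nd843)

/-- A part of the table. -/
def ndTree741 : Tr (List ℕ) := .node ndTree739 ndTree740

/-- A part of the table. -/
def ndTree742 : Tr (List ℕ) := .node (.leaf nd203) (.leaf nd715)

/-- A part of the table. -/
def ndTree743 : Tr (List ℕ) := .node ndTree742 (.leaf nd459)

/-- A part of the table. -/
def ndTree744 : Tr (List ℕ) := .node ndTree741 ndTree743

/-- A part of the table. -/
def ndTree745 : Tr (List ℕ) := .node ndTree738 ndTree744

/-- A part of the table. -/
def ndTree746 : Tr (List ℕ) := .node (.leaf nd43) (.leaf nd555)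

/-- A part of the table. -/
def ndTree747 : Tr (List ℕ) := .node (.leaf nd299) (.leaf nd811)

/-- A part of the table. -/
def ndTree748 : Tr (List ℕ) := .node ndTree746 ndTree747

/-- A part of the table. -/
def ndTree749 : Tr (List ℕ) := .node (.leaf nd171) (.leaf nd683)

/-- A part of the table. -/
def ndTree750 : Tr (List ℕ) := .node ndTree749 (.leaf nd427)

/-- A part of the table. -/
def ndTree751 : Tr (List ℕ) := .node ndTree748 ndTree750

/-- A part of the table. -/
def ndTree752 : Tr (List ℕ) := .node (.leaf nd107) (.leaf nd619)

/-- A part of the table. -/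
def ndTree753 : Tr (List ℕ) := .node (.leaf nd363) (.leaf nd875)

/-- A part of the table. -/
def ndTree754 : Tr (List ℕ) := .node ndTree752 ndTree753

/-- A part of the table. -/
def ndTree755 : Tr (List ℕ) := .node (.leaf nd235) (.leaf nd747)

/-- A part of the table. -/
def ndTree756 : Tr (List ℕ) := .node ndTree755 (.leaf nd491)

/-- A part of the table. -/
def ndTree757 : Tr (List ℕ) := .node ndTree754 ndTree756

/-- A part of the table. -/
def ndTree758 : Tr (List ℕ) := .node ndTree751 ndTree757

/-- A part of the table. -/
def ndTree759 : Tr (List ℕ) := .node ndTree745 ndTree758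

/-- A part of the table. -/
def ndTree760 : Tr (List ℕ) := .node (.leaf nd27) (.leaf nd539)

/-- A part of the table. -/
def ndTree761 : Tr (List ℕ) := .node (.leaf nd283) (.leaf nd795)

/-- A part of the table. -/
def ndTree762 : Tr (List ℕ) := .node ndTree760 ndTree761

/-- A part of the table. -/
def ndTree763 : Tr (List ℕ) := .node (.leaf nd155) (.leaf nd667)

/-- A part of the table. -/
def ndTree764 : Tr (List ℕ) := .node ndTree763 (.leaf nd411)

/-- A part of the table. -/
def ndTree765 : Tr (List ℕ) := .node ndTree762 ndTree764

/-- A part of the table. -/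
def ndTree766 : Tr (List ℕ) := .node (.leaf nd91) (.leaf nd603)

/-- A part of the table. -/
def ndTree767 : Tr (List ℕ) := .node (.leaf nd347) (.leaf nd859)

/-- A part of the table. -/
def ndTree768 : Tr (List ℕ) := .node ndTree766 ndTree767

/-- A part of the table. -/
def ndTree769 : Tr (List ℕ) := .node (.leaf nd219) (.leaf nd731)

/-- A part of the table. -/
def ndTree770 : Tr (List ℕ) := .node ndTree769 (.leaf nd475)

/-- A part of the table. -/
def ndTree771 : Tr (List ℕ) := .node ndTree768 ndTree770

/-- A part of the table. -/
def ndTree772 : Tr (List ℕ) := .node ndTree765 ndTree771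

/-- A part of the table. -/
def ndTree773 : Tr (List ℕ) := .node (.leaf nd59) (.leaf nd571)

/-- A part of the table. -/
def ndTree774 : Tr (List ℕ) := .node (.leaf nd315) (.leaf nd827)

/-- A part of the table. -/
def ndTree775 : Tr (List ℕ) := .node ndTree773 ndTree774

/-- A part of the table. -/
def ndTree776 : Tr (List ℕ) := .node (.leaf nd187) (.leaf nd699)

/-- A part of the table. -/
def ndTree777 : Tr (List ℕ) := .node ndTree776 (.leaf nd443)

/-- A part of the table. -/
def ndTree778 : Tr (List ℕ) := .node ndTree775 ndTree777

/-- A part of the table. -/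
def ndTree779 : Tr (List ℕ) := .node (.leaf nd123) (.leaf nd635)

/-- A part of the table. -/
def ndTree780 : Tr (List ℕ) := .node (.leaf nd379) (.leaf nd891)

/-- A part of the table. -/
def ndTree781 : Tr (List ℕ) := .node ndTree779 ndTree780

/-- A part of the table. -/
def ndTree782 : Tr (List ℕ) := .node (.leaf nd251) (.leaf nd763)

/-- A part of the table. -/
def ndTree783 : Tr (List ℕ) := .node ndTree782 (.leaf nd507)

/-- A part of the table. -/
def ndTree784 : Tr (List ℕ) := .node ndTree781 ndTree783

/-- A part of the table. -/
def ndTree785 : Tr (List ℕ) := .node ndTree778 ndTree784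

/-- A part of the table. -/
def ndTree786 : Tr (List ℕ) := .node ndTree772 ndTree785

/-- A part of the table. -/
def ndTree787 : Tr (List ℕ) := .node ndTree759 ndTree786

/-- A part of the table. -/
def ndTree788 : Tr (List ℕ) := .node ndTree732 ndTree787

/-- A part of the table. -/
def ndTree789 : Tr (List ℕ) := .node (.leaf nd7) (.leaf nd519)

/-- A part of the table. -/
def ndTree790 : Tr (List ℕ) := .node (.leaf nd263) (.leaf nd775)

/-- A part of the table. -/
def ndTree791 : Tr (List ℕ) := .node ndTree789 ndTree790

/-- A part of the table. -/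
def ndTree792 : Tr (List ℕ) := .node (.leaf nd135) (.leaf nd647)

/-- A part of the table. -/
def ndTree793 : Tr (List ℕ) := .node (.leaf nd391) (.leaf nd903)

/-- A part of the table. -/
def ndTree794 : Tr (List ℕ) := .node ndTree792 ndTree793

/-- A part of the table. -/
def ndTree795 : Tr (List ℕ) := .node ndTree791 ndTree794

/-- A part of the table. -/
def ndTree796 : Tr (List ℕ) := .node (.leaf nd71) (.leaf nd583)

/-- A part of the table. -/
def ndTree797 : Tr (List ℕ) := .node (.leaf nd327) (.leaf nd839)

/-- A part of the table. -/
def ndTree798 : Tr (List ℕ) := .node ndTree796 ndTree797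

/-- A part of the table. -/
def ndTree799 : Tr (List ℕ) := .node (.leaf nd199) (.leaf nd711)

/-- A part of the table. -/
def ndTree800 : Tr (List ℕ) := .node ndTree799 (.leaf nd455)

/-- A part of the table. -/
def ndTree801 : Tr (List ℕ) := .node ndTree798 ndTree800

/-- A part of the table. -/
def ndTree802 : Tr (List ℕ) := .node ndTree795 ndTree801

/-- A part of the table. -/
def ndTree803 : Tr (List ℕ) := .node (.leaf nd39) (.leaf nd551)

/-- A part of the table. -/
def ndTree804 : Tr (List ℕ) := .node (.leaf nd295) (.leaf nd807)

/-- A part of the table. -/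
def ndTree805 : Tr (List ℕ) := .node ndTree803 ndTree804

/-- A part of the table. -/
def ndTree806 : Tr (List ℕ) := .node (.leaf nd167) (.leaf nd679)

/-- A part of the table. -/
def ndTree807 : Tr (List ℕ) := .node ndTree806 (.leaf nd423)

/-- A part of the table. -/
def ndTree808 : Tr (List ℕ) := .node ndTree805 ndTree807

/-- A part of the table. -/
def ndTree809 : Tr (List ℕ) := .node (.leaf nd103) (.leaf nd615)

/-- A part of the table. -/
def ndTree810 : Tr (List ℕ) := .node (.leaf nd359) (.leaf nd871)

/-- A part of the table. -/
def ndTree811 : Tr (List ℕ) := .node ndTree809 ndTree810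

/-- A part of the table. -/
def ndTree812 : Tr (List ℕ) := .node (.leaf nd231) (.leaf nd743)

/-- A part of the table. -/
def ndTree813 : Tr (List ℕ) := .node ndTree812 (.leaf nd487)

/-- A part of the table. -/
def ndTree814 : Tr (List ℕ) := .node ndTree811 ndTree813

/-- A part of the table. -/
def ndTree815 : Tr (List ℕ) := .node ndTree808 ndTree814

/-- A part of the table. -/
def ndTree816 : Tr (List ℕ) := .node ndTree802 ndTree815

/-- A part of the table. -/
def ndTree817 : Tr (List ℕ) := .node (.leaf nd23) (.leaf nd535)

/-- A part of the table. -/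
def ndTree818 : Tr (List ℕ) := .node (.leaf nd279) (.leaf nd791)

/-- A part of the table. -/
def ndTree819 : Tr (List ℕ) := .node ndTree817 ndTree818

/-- A part of the table. -/
def ndTree820 : Tr (List ℕ) := .node (.leaf nd151) (.leaf nd663)

/-- A part of the table. -/
def ndTree821 : Tr (List ℕ) := .node ndTree820 (.leaf nd407)

/-- A part of the table. -/
def ndTree822 : Tr (List ℕ) := .node ndTree819 ndTree821

/-- A part of the table. -/
def ndTree823 : Tr (List ℕ) := .node (.leaf nd87) (.leaf nd599)

/-- A part of the table. -/
def ndTree824 : Tr (List ℕ) := .node (.leaf nd343) (.leaf nd855)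

/-- A part of the table. -/
def ndTree825 : Tr (List ℕ) := .node ndTree823 ndTree824

/-- A part of the table. -/
def ndTree826 : Tr (List ℕ) := .node (.leaf nd215) (.leaf nd727)

/-- A part of the table. -/
def ndTree827 : Tr (List ℕ) := .node ndTree826 (.leaf nd471)

/-- A part of the table. -/
def ndTree828 : Tr (List ℕ) := .node ndTree825 ndTree827

/-- A part of the table. -/
def ndTree829 : Tr (List ℕ) := .node ndTree822 ndTree828

/-- A part of the table. -/
def ndTree830 : Tr (List ℕ) := .node (.leaf nd55) (.leaf nd567)

/-- A part of the table. -/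
def ndTree831 : Tr (List ℕ) := .node (.leaf nd311) (.leaf nd823)

/-- A part of the table. -/
def ndTree832 : Tr (List ℕ) := .node ndTree830 ndTree831

/-- A part of the table. -/
def ndTree833 : Tr (List ℕ) := .node (.leaf nd183) (.leaf nd695)

/-- A part of the table. -/
def ndTree834 : Tr (List ℕ) := .node ndTree833 (.leaf nd439)

/-- A part of the table. -/
def ndTree835 : Tr (List ℕ) := .node ndTree832 ndTree834

/-- A part of the table. -/
def ndTree836 : Tr (List ℕ) := .node (.leaf nd119) (.leaf nd631)

/-- A part of the table. -/
def ndTree837 : Tr (List ℕ) := .node (.leaf nd375) (.leaf nd887)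

/-- A part of the table. -/
def ndTree838 : Tr (List ℕ) := .node ndTree836 ndTree837

/-- A part of the table. -/
def ndTree839 : Tr (List ℕ) := .node (.leaf nd247) (.leaf nd759)

/-- A part of the table. -/
def ndTree840 : Tr (List ℕ) := .node ndTree839 (.leaf nd503)

/-- A part of the table. -/
def ndTree841 : Tr (List ℕ) := .node ndTree838 ndTree840

/-- A part of the table. -/
def ndTree842 : Tr (List ℕ) := .node ndTree835 ndTree841

/-- A part of the table. -/
def ndTree843 : Tr (List ℕ) := .node ndTree829 ndTree842

/-- A part of the table. -/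
def ndTree844 : Tr (List ℕ) := .node ndTree816 ndTree843

/-- A part of the table. -/
def ndTree845 : Tr (List ℕ) := .node (.leaf nd15) (.leaf nd527)

/-- A part of the table. -/
def ndTree846 : Tr (List ℕ) := .node (.leaf nd271) (.leaf nd783)

/-- A part of the table. -/
def ndTree847 : Tr (List ℕ) := .node ndTree845 ndTree846

/-- A part of the table. -/
def ndTree848 : Tr (List ℕ) := .node (.leaf nd143) (.leaf nd655)

/-- A part of the table. -/
def ndTree849 : Tr (List ℕ) := .node ndTree848 (.leaf nd399)

/-- A part of the table. -/
def ndTree850 : Tr (List ℕ) := .node ndTree847 ndTree849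

/-- A part of the table. -/
def ndTree851 : Tr (List ℕ) := .node (.leaf nd79) (.leaf nd591)

/-- A part of the table. -/
def ndTree852 : Tr (List ℕ) := .node (.leaf nd335) (.leaf nd847)

/-- A part of the table. -/
def ndTree853 : Tr (List ℕ) := .node ndTree851 ndTree852

/-- A part of the table. -/
def ndTree854 : Tr (List ℕ) := .node (.leaf nd207) (.leaf nd719)

/-- A part of the table. -/
def ndTree855 : Tr (List ℕ) := .node ndTree854 (.leaf nd463)

/-- A part of the table. -/
def ndTree856 : Tr (List ℕ) := .node ndTree853 ndTree855

/-- A part of the table. -/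
def ndTree857 : Tr (List ℕ) := .node ndTree850 ndTree856

/-- A part of the table. -/
def ndTree858 : Tr (List ℕ) := .node (.leaf nd47) (.leaf nd559)

/-- A part of the table. -/
def ndTree859 : Tr (List ℕ) := .node (.leaf nd303) (.leaf nd815)

/-- A part of the table. -/
def ndTree860 : Tr (List ℕ) := .node ndTree858 ndTree859

/-- A part of the table. -/
def ndTree861 : Tr (List ℕ) := .node (.leaf nd175) (.leaf nd687)

/-- A part of the table. -/
def ndTree862 : Tr (List ℕ) := .node ndTree861 (.leaf nd431)

/-- A part of the table. -/
def ndTree863 : Tr (List ℕ) := .node ndTree860 ndTree862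

/-- A part of the table. -/
def ndTree864 : Tr (List ℕ) := .node (.leaf nd111) (.leaf nd623)

/-- A part of the table. -/
def ndTree865 : Tr (List ℕ) := .node (.leaf nd367) (.leaf nd879)

/-- A part of the table. -/
def ndTree866 : Tr (List ℕ) := .node ndTree864 ndTree865

/-- A part of the table. -/
def ndTree867 : Tr (List ℕ) := .node (.leaf nd239) (.leaf nd751)

/-- A part of the table. -/
def ndTree868 : Tr (List ℕ) := .node ndTree867 (.leaf nd495)

/-- A part of the table. -/
def ndTree869 : Tr (List ℕ) := .node ndTree866 ndTree868

/-- A part of the table. -/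
def ndTree870 : Tr (List ℕ) := .node ndTree863 ndTree869

/-- A part of the table. -/
def ndTree871 : Tr (List ℕ) := .node ndTree857 ndTree870

/-- A part of the table. -/
def ndTree872 : Tr (List ℕ) := .node (.leaf nd31) (.leaf nd543)

/-- A part of the table. -/
def ndTree873 : Tr (List ℕ) := .node (.leaf nd287) (.leaf nd799)

/-- A part of the table. -/
def ndTree874 : Tr (List ℕ) := .node ndTree872 ndTree873

/-- A part of the table. -/
def ndTree875 : Tr (List ℕ) := .node (.leaf nd159) (.leaf nd671)

/-- A part of the table. -/
def ndTree876 : Tr (List ℕ) := .node ndTree875 (.leaf nd415)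

/-- A part of the table. -/
def ndTree877 : Tr (List ℕ) := .node ndTree874 ndTree876

/-- A part of the table. -/
def ndTree878 : Tr (List ℕ) := .node (.leaf nd95) (.leaf nd607)

/-- A part of the table. -/
def ndTree879 : Tr (List ℕ) := .node (.leaf nd351) (.leaf nd863)

/-- A part of the table. -/
def ndTree880 : Tr (List ℕ) := .node ndTree878 ndTree879

/-- A part of the table. -/
def ndTree881 : Tr (List ℕ) := .node (.leaf nd223) (.leaf nd735)

/-- A part of the table. -/
def ndTree882 : Tr (List ℕ) := .node ndTree881 (.leaf nd479)

/-- A part of the table. -/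
def ndTree883 : Tr (List ℕ) := .node ndTree880 ndTree882

/-- A part of the table. -/
def ndTree884 : Tr (List ℕ) := .node ndTree877 ndTree883

/-- A part of the table. -/
def ndTree885 : Tr (List ℕ) := .node (.leaf nd63) (.leaf nd575)

/-- A part of the table. -/
def ndTree886 : Tr (List ℕ) := .node (.leaf nd319) (.leaf nd831)

/-- A part of the table. -/
def ndTree887 : Tr (List ℕ) := .node ndTree885 ndTree886

/-- A part of the table. -/
def ndTree888 : Tr (List ℕ) := .node (.leaf nd191) (.leaf nd703)

/-- A part of the table. -/
def ndTree889 : Tr (List ℕ) := .node ndTree888 (.leaf nd447)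

/-- A part of the table. -/
def ndTree890 : Tr (List ℕ) := .node ndTree887 ndTree889

/-- A part of the table. -/
def ndTree891 : Tr (List ℕ) := .node (.leaf nd127) (.leaf nd639)

/-- A part of the table. -/
def ndTree892 : Tr (List ℕ) := .node (.leaf nd383) (.leaf nd895)

/-- A part of the table. -/
def ndTree893 : Tr (List ℕ) := .node ndTree891 ndTree892

/-- A part of the table. -/
def ndTree894 : Tr (List ℕ) := .node (.leaf nd255) (.leaf nd767)

/-- A part of the table. -/
def ndTree895 : Tr (List ℕ) := .node ndTree894 (.leaf nd511)

/-- A part of the table. -/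
def ndTree896 : Tr (List ℕ) := .node ndTree893 ndTree895

/-- A part of the table. -/
def ndTree897 : Tr (List ℕ) := .node ndTree890 ndTree896

/-- A part of the table. -/
def ndTree898 : Tr (List ℕ) := .node ndTree884 ndTree897

/-- A part of the table. -/
def ndTree899 : Tr (List ℕ) := .node ndTree871 ndTree898

/-- A part of the table. -/
def ndTree900 : Tr (List ℕ) := .node ndTree844 ndTree899

/-- A part of the table. -/
def ndTree901 : Tr (List ℕ) := .node ndTree788 ndTree900

/-- A part of the table. -/
def ndTree902 : Tr (List ℕ) := .node ndTree676 ndTree901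

/-- A part of the table. -/
def ndTree903 : Tr (List ℕ) := .node ndTree451 ndTree902

/-- The table. -/
def ndTab : Tr (List ℕ) := ndTree903

/-- The products. -/
def ndProg0 : List (ℕ × ℕ) := [(0, 0), (2, 0), (1, 0), (6, 5), (6, 7), (6, 8), (5, 9), (0, 10), (11, 2), (12, 12), (13, 13), (14, 14), (13, 15), (6, 9), (2, 3), (5, 5), (19, 18), (5, 7), (17, 21), (22, 20), (23, 23), (24, 17), (21, 7), (1, 3), (6, 6), (21, 19), (19, 19), (30, 26), (8, 10), (6, 3), (6, 17), (5, 34), (7, 8), (5, 3), (19, 21), (19, 26), (7, 7), (8, 40), (5, 27), (19, 40), (5, 8), (5, 28), (19, 7), (46, 45), (8, 7), (9, 7), (10, 40), (44, 8), (30, 51), (8, 20), (7, 21), (9, 19), (9, 55), (5, 18), (6, 37), (45, 58), (8, 17), (7, 30), (5, 17), (8, 62), (5, 33), (44, 40), (49, 28), (9, 8), (17, 30), (68, 19), (8, 29), (40, 46), (28, 28), (19, 72), (10, 19), (74, 9), (44, 7), (76, 19), (6, 27), (19, 48), (28, 33), (30, 30), (7, 55), (6, 33)]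

/-- The products. -/
def ndProg1 : List (ℕ × ℕ) := [(17, 34), (43, 7), (17, 53), (86, 86), (20, 87), (40, 88), (21, 88), (48, 88), (28, 34), (92, 88), (53, 87), (94, 55), (95, 57), (96, 87), (97, 93), (98, 91), (99, 89), (100, 89), (101, 90), (102, 89), (103, 85), (104, 84), (105, 8), (106, 5), (107, 83), (108, 82), (109, 34), (110, 21), (111, 80), (112, 46), (113, 81), (114, 17), (115, 80), (116, 54), (117, 34), (118, 79), (119, 78), (120, 77), (121, 22), (122, 75), (123, 18), (124, 9), (125, 50), (126, 54), (127, 58), (128, 34), (129, 67), (130, 73), (131, 33), (132, 71), (133, 70), (134, 21), (135, 27), (136, 49), (137, 35), (138, 19), (139, 69), (140, 27), (141, 44), (142, 30), (143, 67), (144, 30), (145, 33), (146, 40), (147, 41), (148, 66), (149, 33), (150, 10), (151, 65), (152, 29), (153, 64), (154, 63), (155, 61), (156, 60), (157, 7), (158, 18), (159, 29), (160, 17), (161, 36), (162, 59)]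

/-- The products. -/
def ndProg2 : List (ℕ × ℕ) := [(163, 26), (164, 5), (165, 22), (166, 57), (167, 8), (168, 48), (169, 17), (170, 54), (171, 33), (172, 44), (173, 56), (174, 54), (175, 53), (176, 10), (177, 52), (178, 44), (179, 3), (180, 50), (181, 26), (182, 49), (183, 3), (184, 48), (185, 38), (186, 47), (187, 27), (188, 31), (189, 44), (190, 43), (191, 19), (192, 42), (193, 41), (194, 39), (195, 38), (196, 37), (197, 36), (198, 35), (199, 21), (200, 33), (201, 7), (202, 10), (203, 21), (204, 9), (205, 30), (206, 3), (207, 32), (208, 31), (209, 29), (210, 28), (211, 27), (212, 25), (213, 26), (214, 20), (215, 25), (216, 2), (217, 217), (218, 218), (219, 219), (218, 220), (221, 16), (217, 12), (223, 222), (224, 224), (225, 225), (226, 225), (219, 217), (228, 217), (229, 217), (230, 227), (231, 231), (232, 232), (233, 233), (232, 234), (235, 12), (236, 231), (17, 5), (30, 7), (239, 239), (40, 19), (27, 40), (238, 94)]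

/-- The products. -/
def ndProg3 : List (ℕ × ℕ) := [(97, 243), (244, 93), (245, 34), (246, 5), (247, 95), (248, 94), (249, 89), (250, 0), (251, 75), (252, 62), (253, 30), (254, 9), (255, 5), (256, 242), (257, 30), (258, 73), (259, 72), (260, 58), (261, 7), (262, 29), (263, 41), (264, 58), (265, 39), (266, 69), (267, 78), (268, 48), (269, 55), (270, 241), (271, 9), (272, 40), (273, 42), (274, 51), (275, 26), (276, 33), (277, 34), (278, 49), (279, 73), (280, 83), (281, 10), (282, 26), (283, 21), (284, 18), (285, 9), (286, 44), (287, 19), (288, 10), (289, 70), (290, 9), (291, 33), (292, 240), (293, 62), (294, 33), (295, 8), (296, 35), (297, 30), (298, 10), (299, 37), (300, 40), (301, 60), (302, 8), (303, 21), (304, 64), (305, 10), (306, 85), (307, 238), (308, 6), (309, 220), (226, 226), (227, 311), (9, 67), (76, 3), (26, 8), (45, 28), (21, 8), (5, 37), (317, 318), (92, 10), (21, 21), (9, 88), (322, 91)]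

/-- The products. -/
def ndProg4 : List (ℕ × ℕ) := [(323, 44), (324, 321), (325, 56), (326, 26), (327, 19), (328, 33), (329, 43), (330, 26), (331, 66), (332, 37), (333, 7), (334, 320), (335, 59), (336, 317), (337, 46), (338, 319), (339, 46), (340, 240), (341, 26), (342, 27), (343, 61), (344, 29), (345, 45), (346, 17), (347, 33), (348, 52), (349, 21), (350, 40), (351, 58), (352, 76), (353, 46), (354, 19), (355, 319), (356, 317), (357, 55), (358, 44), (359, 21), (360, 239), (361, 42), (362, 61), (363, 79), (364, 316), (365, 3), (366, 30), (367, 62), (368, 81), (369, 64), (370, 49), (371, 315), (372, 314), (373, 55), (374, 313), (375, 21), (5, 58), (7, 77), (98, 243), (379, 89), (380, 10), (381, 54), (382, 17), (383, 315), (384, 21), (385, 3), (386, 0), (387, 40), (388, 316), (389, 22), (390, 377), (391, 241), (392, 10), (393, 8), (394, 44), (395, 318), (396, 77), (397, 74), (398, 59), (399, 378), (400, 9), (401, 321), (402, 40)]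

/-- The products. -/
def ndProg5 : List (ℕ × ℕ) := [(403, 3), (404, 378), (405, 316), (406, 58), (407, 32), (408, 82), (409, 21), (410, 33), (411, 317), (412, 84), (413, 377), (414, 65), (415, 34), (416, 7), (417, 41), (418, 3), (419, 21), (420, 50), (421, 66), (422, 3), (423, 46), (424, 17), (425, 44), (426, 47), (427, 3), (428, 40), (429, 26), (430, 44), (431, 27), (432, 29), (433, 321), (434, 1), (435, 376), (436, 312), (437, 437), (438, 437), (439, 437), (440, 310), (0, 1), (1, 442), (0, 443), (444, 1), (445, 1), (446, 6), (37, 2), (448, 448), (449, 449), (450, 450), (451, 451), (452, 452), (450, 453), (6, 454), (1, 455), (456, 447), (12, 15), (17, 19), (245, 28), (460, 87), (461, 86), (462, 90), (463, 30), (464, 55), (465, 10), (466, 73), (467, 17), (468, 242), (469, 71), (470, 38), (471, 80), (472, 21), (473, 72), (474, 459), (475, 29), (476, 33), (477, 313), (478, 38), (479, 45), (480, 27), (481, 17), (482, 10)]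

/-- The products. -/
def ndProg6 : List (ℕ × ℕ) := [(483, 7), (484, 50), (485, 44), (486, 37), (487, 19), (488, 63), (489, 73), (490, 28), (491, 37), (492, 46), (493, 43), (494, 79), (495, 20), (496, 0), (497, 67), (498, 239), (499, 316), (500, 78), (501, 9), (502, 45), (503, 320), (504, 34), (505, 18), (506, 35), (507, 239), (508, 43), (509, 37), (510, 28), (511, 17), (512, 39), (513, 314), (514, 317), (515, 459), (516, 45), (517, 72), (518, 3), (519, 39), (520, 30), (521, 8), (522, 9), (523, 376), (524, 458), (525, 525), (526, 437), (527, 457), (457, 457), (529, 529), (530, 530), (531, 531), (532, 532), (457, 529), (534, 530), (535, 533), (527, 536), (537, 528), (538, 538), (539, 539), (540, 540), (541, 541), (539, 542), (457, 543), (446, 447), (527, 545), (546, 546), (547, 547), (548, 548), (549, 549), (550, 550), (545, 551), (552, 544), (527, 447), (11, 11), (555, 555), (556, 556), (11, 555), (558, 557), (559, 559), (560, 560), (561, 561), (559, 560)]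

/-- The products. -/
def ndProg7 : List (ℕ × ℕ) := [(563, 562), (527, 564), (565, 554), (566, 566), (567, 567), (568, 568), (567, 568), (570, 569), (447, 571), (572, 553), (527, 37), (3, 2), (0, 575), (1, 576), (3, 448), (578, 577), (0, 579), (527, 580), (581, 574), (582, 582), (583, 583), (584, 584), (582, 583), (586, 584), (587, 585), (37, 588), (589, 589), (590, 590), (591, 591), (589, 591), (593, 592), (594, 573), (37, 545), (527, 596), (596, 596), (598, 598), (599, 599), (600, 600), (601, 601), (527, 602), (603, 597), (604, 604), (605, 605), (606, 606), (605, 606), (608, 607), (596, 609), (545, 5), (527, 611), (527, 559), (613, 612), (614, 614), (615, 615), (616, 616), (614, 615), (618, 616), (619, 617), (611, 620), (621, 621), (622, 622), (621, 622), (624, 623), (625, 610), (625, 626), (627, 595), (445, 580), (457, 629), (527, 630), (630, 630), (632, 632), (633, 633), (634, 634), (632, 633), (636, 634), (637, 635), (527, 638), (639, 631), (640, 640), (641, 641), (642, 642)]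

/-- The products. -/
def ndProg8 : List (ℕ × ℕ) := [(643, 643), (641, 644), (630, 645), (646, 646), (647, 647), (648, 648), (646, 648), (650, 649), (610, 651), (652, 621), (653, 552), (625, 654), (655, 628), (525, 437), (657, 525), (658, 1), (658, 2), (660, 659), (661, 661), (662, 662), (663, 663), (664, 664), (662, 665), (1, 666), (667, 667), (668, 668), (669, 669), (667, 668), (671, 669), (672, 670), (455, 1), (454, 455), (675, 454), (676, 674), (580, 677), (658, 678), (678, 678), (680, 680), (681, 681), (682, 682), (678, 681), (684, 682), (685, 683), (658, 686), (687, 679), (688, 688), (689, 689), (690, 690), (688, 689), (692, 691), (678, 693), (694, 694), (695, 695), (696, 696), (694, 696), (698, 697), (699, 673), (667, 700), (658, 580), (658, 37), (703, 702), (704, 704), (705, 705), (706, 706), (704, 705), (708, 707), (580, 709), (710, 710), (711, 711), (712, 712), (710, 711), (714, 712), (715, 713), (716, 701), (658, 677), (677, 677), (658, 719), (720, 718), (721, 721), (722, 722)]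

/-- The products. -/
def ndProg9 : List (ℕ × ℕ) := [(723, 723), (721, 722), (725, 723), (726, 724), (677, 727), (728, 728), (729, 729), (730, 730), (728, 729), (732, 731), (0, 3), (658, 734), (735, 735), (736, 736), (734, 737), (728, 738), (739, 733), (579, 27), (580, 741), (658, 742), (742, 742), (742, 744), (658, 745), (746, 743), (747, 747), (748, 748), (749, 749), (747, 748), (751, 749), (752, 750), (742, 753), (716, 754), (755, 728), (756, 740), (757, 717), (525, 656), (759, 758), (760, 656), (761, 525), (762, 758), (763, 656), (441, 441), (765, 765), (766, 766), (767, 441), (764, 764), (769, 764), (441, 770), (771, 441), (772, 770), (773, 770), (774, 768), (775, 770), (776, 774), (775, 237), (310, 237), (237, 237), (780, 777), (780, 780), (782, 237), (783, 783), (237, 441), (780, 237), (785, 237), (785, 441), (765, 237), (787, 441), (788, 441), (789, 237), (790, 441), (791, 441), (783, 237), (793, 441), (794, 441), (795, 237), (796, 441), (797, 441), (798, 237), (799, 441), (800, 441)]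

/-- The products. -/
def ndProg10 : List (ℕ × ℕ) := [(801, 237), (803, 441), (768, 764), (806, 237), (807, 441), (808, 237), (809, 768), (810, 770), (811, 237), (812, 441), (813, 770), (814, 770), (815, 768), (816, 768), (817, 768), (771, 237), (819, 768), (820, 764), (821, 821), (822, 822), (818, 823), (824, 805), (777, 237), (237, 777), (777, 780), (237, 826), (310, 827), (777, 828), (777, 829), (310, 781), (777, 792), (237, 832), (310, 833), (237, 835), (832, 832), (826, 832), (310, 830), (839, 840), (765, 841), (765, 842), (841, 842), (765, 843), (841, 843), (841, 844), (841, 767), (765, 845), (765, 846), (765, 847), (765, 848), (841, 849), (841, 850), (841, 851), (841, 852), (851, 851), (857, 851), (858, 851), (859, 851), (860, 851), (841, 848), (861, 862), (855, 844), (765, 851), (864, 865), (863, 863), (866, 863), (863, 866), (866, 866), (863, 867), (866, 867), (866, 868), (863, 869), (866, 869), (863, 871), (863, 872), (866, 872), (863, 873), (863, 875), (863, 877), (863, 878), (863, 881)]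

/-- The products. -/
def ndProg11 : List (ℕ × ℕ) := [(877, 877), (884, 877), (885, 877), (866, 875), (886, 887), (863, 882), (866, 889), (873, 873), (863, 874), (891, 892), (888, 888), (890, 888), (893, 888), (888, 890), (890, 890), (893, 890), (893, 893), (890, 894), (888, 895), (890, 895), (890, 900), (890, 901), (893, 897), (890, 906), (907, 907)]

end Cfsg.Lib.J4NonLocal.AutM
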